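import Cfsg.Agent.Omega.FFThm
import Cfsg.Agent.ClassTwoFusion.Quad

/-!
# SQ0: the conclusion of the FF theorem for a faithful action

`X` acts on the elementary abelian 2-group `V` (written multiplicatively, `MulDistribMulAction X V`), `T` a subgroup of
`X`.  `AbsNat`, `AbsSym` are the structures `NatK`, `SymK` of `FFThm` word for word in this language, with
`D = odd X V` = the fixed points of `O²(X)`.
-/

set_option autoImplicit false
set_option linter.unusedSectionVars false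

namespace Cfsg.Agent.Omega.FFBr

open Subgroup Cfsg.Agent.Lib.SL2Mat
open Cfsg.Agent.Omega.NatPair (ap)

universe u

/-- the abstract situation of the FF theorem -/
structure Abs (X V : Type*) [Group X] [Group V] [MulDistribMulAction X V] (T : Sylow 2 X) (M : Subgroup X) : Prop where
  comm : ∀ v w : V, v * w = w * v
  sq : ∀ v : V, v * v = 1
  faith : ∀ x : X, (∀ v : V, x • v = v) → x = 1
  core : ∀ N : Subgroup X, N.Normal → IsPGroup 2 N → N = ⊥
  TM : (T : Subgroup X) ≤ M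
  Mne : M ≠ ⊤
  max : ∀ K : Subgroup X, (T : Subgroup X) ≤ K → K ≤ M ∨ K = ⊤
  gen : ∀ W : Subgroup V, (∀ v : V, (∀ t ∈ T, t • v = v) → ∀ x : X, x • v ∈ W) → W = ⊤
  nfix : ∃ v : V, (∀ t ∈ T, t • v = v) ∧ ∃ x : X, x • v ≠ v

section

variable (X V : Type*) [Group X] [Group V] [MulDistribMulAction X V]

/-- the fixed points of `O²(X)` -/
def odd : Subgroup V where
  carrier := {v | ∀ x : X, Odd (orderOf x) → x • v = v}
  one_mem' := fun x _ => smul_one x
  mul_mem' := fun {v w} hv hw x hx => by rw [smul_mul', hv x hx, hw x hx]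
  inv_mem' := fun {v} hv x hx => by rw [smul_inv', hv x hx]

end

section

variable {X V : Type*} [Group X] [Group V] [MulDistribMulAction X V]

theorem mem_odd {v : V} : v ∈ odd X V ↔ ∀ x : X, Odd (orderOf x) → x • v = v := Iff.rfl

/-- `A` is an offender on `V` -/
structure AOff (V : Type*) [Group V] [MulDistribMulAction X V] (A : Subgroup X) : Prop where
  comm : ∀ a ∈ A, ∀ b ∈ A, a * b = b * a
  sq : ∀ a ∈ A, a * a = 1
  ne : A ≠ ⊥
  le : (ClassTwoFusion.Quad.cv V (A : Set X)).index ≤ Nat.card A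

/-- no over-offender -/
def ANoOver (X V : Type*) [Group X] [Group V] [MulDistribMulAction X V] : Prop :=
  ∀ A : Subgroup X, (∀ a ∈ A, ∀ b ∈ A, a * b = b * a) → (∀ a ∈ A, a * a = 1) →
    Nat.card A ≤ (ClassTwoFusion.Quad.cv V (A : Set X)).index

/-- `g` acts as `A ∈ SL₂(F)^k` on the coordinates of `V` and trivially on `C_V(O²(X))` -/
def AActs {F : Type} [Field F] {k : ℕ} (e : V → Fin k → Fin 2 → F) (g : X)
    (A : Fin k → Matrix.SpecialLinearGroup (Fin 2) F) : Prop :=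
  (∀ v i, e (g • v) i = ap (A i) (e v i)) ∧ ∀ d ∈ odd X V, g • d = d

/-- `V / C_V(O²(X))` is the sum of `k` natural `SL₂(F)`-modules -/
structure AbsNat (F : Type) [Field F] (T : Subgroup X) (V : Type*) [Group V] [MulDistribMulAction X V] (k : ℕ) where
  e : V → Fin k → Fin 2 → F
  mul : ∀ v w, e (v * w) = e v + e w
  surj : ∀ x, ∃ v, e v = x
  ker : ∀ v, e v = 0 ↔ v ∈ odd X V
  lift : ∀ A : Fin k → Matrix.SpecialLinearGroup (Fin 2) F, ∃ g : X, AActs e g A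
  norm : ∀ (g h : X) (A : Fin k → Matrix.SpecialLinearGroup (Fin 2) F),
    (∀ v i, e (h • v) i = ap (A i) (e v i)) →
      ∃ B : Fin k → Matrix.SpecialLinearGroup (Fin 2) F, ∀ v i, e ((g * h * g⁻¹) • v) i = ap (B i) (e v i)
  perm : ∀ g : X, ∃ σ : Equiv.Perm (Fin k), ∀ v i, e (g • v) (σ i) = 0 ↔ e v i = 0
  trans : ∀ i j, ∃ t ∈ T, ∀ v, e (t • v) j = 0 ↔ e v i = 0
  line : ∀ t ∈ T, ∃ σ : Equiv.Perm (Fin k), ∀ v i, e (t • v) (σ i) 1 = 0 ↔ e v i 1 = 0
  unip : ∀ b : Fin k → F, ∃ t ∈ T, AActs e t fun i => up (b i)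
  gen : ∀ K : Subgroup X, T ≤ K → (∀ h A, AActs e h A → h ∈ K) → K = ⊤
  off : ∀ A : Subgroup X, A ≤ T → AOff V A → ∃ I : Set (Fin k),
    (∀ a ∈ A, ∃ b : Fin k → F, (∀ i, i ∉ I → b i = 0) ∧ AActs e a fun i => up (b i)) ∧
      ∀ b : Fin k → F, (∀ i, i ∉ I → b i = 0) → ∃ a ∈ A, AActs e a fun i => up (b i)

/-- `g` acts on the coordinates by the permutation `(σ, τ)` of the points -/
def AActsSym {k n : ℕ} (e : V → Fin k → Fin n → ZMod 2) (g : X) (σ : Equiv.Perm (Fin k))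
    (τ : Fin k → Equiv.Perm (Fin n)) : Prop :=
  ∀ v i x, e (g • v) (σ i) (τ i x) = e v i x

/-- `V / C_V(O²(X))` is the sum of `k` even-subset modules of `S_{2^m+1}` -/
structure AbsSym (T : Subgroup X) (V : Type*) [Group V] [MulDistribMulAction X V] (k m : ℕ) where
  e : V → Fin k → Fin (2 ^ m + 1) → ZMod 2
  mul : ∀ v w, e (v * w) = e v + e w
  even : ∀ v i, ∑ x, e v i x = 0
  surj : ∀ y : Fin k → Fin (2 ^ m + 1) → ZMod 2, (∀ i, ∑ x, y i x = 0) → ∃ v, e v = y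
  ker : ∀ v, e v = 0 ↔ v ∈ odd X V
  lift : ∀ τ : Fin k → Equiv.Perm (Fin (2 ^ m + 1)), ∃ g : X, AActsSym e g 1 τ ∧ ∀ d ∈ odd X V, g • d = d
  perm : ∀ g : X, ∃ σ τ, AActsSym e g σ τ
  trans : ∀ i j, ∃ t ∈ T, ∃ σ τ, AActsSym e t σ τ ∧ σ i = j
  fix0 : ∀ t ∈ T, ∀ σ τ, AActsSym e t σ τ → ∀ i, τ i 0 = 0
  gen : ∀ K : Subgroup X, T ≤ K → (∀ h τ, AActsSym e h 1 τ → (∀ d ∈ odd X V, h • d = d) → h ∈ K) → K = ⊤
  off : ∀ A : Subgroup X, A ≤ T → AOff V A → (∀ a ∈ A, ∀ d ∈ odd X V, a • d = d) ∧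
    ∀ a ∈ A, ∃ τ : Fin k → Equiv.Perm (Fin (2 ^ m + 1)), AActsSym e a 1 τ ∧
      ∀ i x, τ i x ≠ x → τ i (τ i x) = x ∧
        ∃ b ∈ A, AActsSym e b 1 (Function.update 1 i (Equiv.swap x (τ i x)))

/-- the abstract conclusion -/
def AConcl (T : Subgroup X) (V : Type*) [Group V] [MulDistribMulAction X V] : Prop :=
  (∃ (F : Type) (_ : Field F) (_ : Finite F) (_ : CharP F 2) (k : ℕ), 0 < k ∧ Nonempty (AbsNat F T V k)) ∨
  ∃ k m : ℕ, 0 < k ∧ 2 ≤ m ∧ Nonempty (AbsSym T V k m)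

end

/-- **the abstract FF theorem** -/
def AStmt : Prop :=
  ∀ (X V : Type u) [Group X] [Finite X] [Group V] [Finite V] [MulDistribMulAction X V] (T : Sylow 2 X) (M : Subgroup X),
    Abs X V T M → (∃ A : Subgroup X, AOff V A) → ANoOver X V ∧ AConcl (T : Subgroup X) V

end Cfsg.Agent.Omega.FFBr
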