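import Cfsg.Agent.Omega.FFBr.TwoNat

/-!
# The FF theorem for minimal parabolics, `q = 2`

`Abs X V T M` (`FFBr.Def`) and an element `d ≠ 1` with `|V : C_V(d)| ≤ 2`.

* `two` : there are no over-offenders, and `AConcl T V` (`AbsSym` or `AbsNat (ZMod 2)`);
* `two_of_off` : the same for an offender of order 2.
-/

set_option autoImplicit false

namespace Cfsg.Agent.Omega.FFBr.Two

open Subgroup Cfsg.Agent.Omega.Transv
open Cfsg.Agent.ClassTwoFusion.Quad (cv mem_cv mem_cv_singleton)

variable {X V : Type*} [Group X] [Group V] [MulDistribMulAction X V] {T : Sylow 2 X} {M : Subgroup X}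

/-- **The FF theorem, `q = 2`.** -/
theorem two [Finite X] [Finite V] (hA : Abs X V T M) {d : X} (hd1 : d ≠ 1) (hd : (cv V ({d} : Set X)).index ≤ 2) :
    ANoOver X V ∧ AConcl (T : Subgroup X) V := by
  classical
  let i1 : AddCommGroup (Additive V) :=
    { (inferInstance : AddGroup (Additive V)) with
      add_comm := fun v w => congrArg Additive.ofMul (hA.comm (Additive.toMul v) (Additive.toMul w)) }
  let i2 : Module (ZMod 2) (Additive V) := AddCommGroup.zmodModule (n := 2) fun v => by
    rw [two_nsmul]
    exact congrArg Additive.ofMul (hA.sq (Additive.toMul v))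
  let i3 : DistribMulAction X (Additive V) :=
    { smul := fun x v => Additive.ofMul (x • Additive.toMul v)
      one_smul := fun v => congrArg Additive.ofMul (one_smul X (Additive.toMul v))
      mul_smul := fun x y v => congrArg Additive.ofMul (mul_smul x y (Additive.toMul v))
      smul_zero := fun x => congrArg Additive.ofMul (smul_one x)
      smul_add := fun x v w => congrArg Additive.ofMul (smul_mul' x (Additive.toMul v) (Additive.toMul w)) }
  have i : Tr X (Additive.ofMul : V → Additive V) :=
    ⟨Additive.ofMul.injective, Additive.ofMul.surjective, fun _ _ => rfl, fun _ _ => rfl⟩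
  have : Finite (Additive V) := inferInstanceAs (Finite V)
  -- `d` is a transvection
  set K : Subgroup V := cv V ({d} : Set X) with hK
  have hmem : ∀ v : V, v ∈ K ↔ d • v = v := fun v => mem_cv_singleton
  have hne : K ≠ ⊤ := by
    intro h0
    apply hd1
    refine hA.faith d fun v => ?_
    rw [← hmem, h0]
    exact mem_top v
  have hidx : K.index = 2 := by
    have h1 : K.index ≠ 1 := fun h0 => hne (Subgroup.index_eq_one.1 h0)
    have h2 : K.index ≠ 0 := Subgroup.index_ne_zero_of_finite
    omega
  obtain ⟨v0, hv0⟩ : ∃ v0, v0 ∉ K := by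
    by_contra hcon
    push Not at hcon
    exact hne (eq_top_iff.2 fun v _ => hcon v)
  let χ0 : Additive V →+ ZMod 2 :=
    { toFun := fun v => if Additive.toMul v ∈ K then 0 else 1
      map_zero' := if_pos (one_mem K)
      map_add' := fun v w => by
        have h1 : (Additive.toMul (v + w) ∈ K ↔ (Additive.toMul v ∈ K ↔ Additive.toMul w ∈ K)) :=
          Subgroup.mul_mem_iff_of_index_two hidx
        by_cases h2 : Additive.toMul v ∈ K
        · by_cases h3 : Additive.toMul w ∈ K
          · rw [if_pos (h1.2 ⟨fun _ => h3, fun _ => h2⟩), if_pos h2, if_pos h3, add_zero]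
          · rw [if_neg fun h0 => h3 ((h1.1 h0).1 h2), if_pos h2, if_neg h3, zero_add]
        · by_cases h3 : Additive.toMul w ∈ K
          · rw [if_neg fun h0 => h2 ((h1.1 h0).2 h3), if_neg h2, if_pos h3, add_zero]
          · rw [if_pos (h1.2 ⟨fun h0 => absurd h0 h2, fun h0 => absurd h0 h3⟩), if_neg h2, if_neg h3,
              one_add_one] }
  let χ : Du (Additive V) := χ0.toZModLinearMap 2
  have hχ : ∀ v : V, χ (Additive.ofMul v) = if v ∈ K then 0 else 1 := fun v => rfl
  have hTv : Tv d (Additive.ofMul (d • v0 * v0)) χ := by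
    refine ⟨fun h0 => ?_, fun h0 => ?_, fun v => ?_⟩
    · have h1 : d • v0 * v0 = 1 := h0
      rw [mul_eq_one_iff_eq_inv] at h1
      have h2 : v0⁻¹ = v0 := inv_eq_of_mul_eq_one_left (hA.sq v0)
      rw [h2] at h1
      exact hv0 ((hmem v0).2 h1)
    · have h1 := LinearMap.congr_fun h0 (Additive.ofMul v0)
      rw [hχ, if_neg hv0] at h1
      exact one_ne h1
    · obtain ⟨v, rfl⟩ := Additive.ofMul.surjective v
      rw [hχ]
      by_cases h1 : v ∈ K
      · rw [if_pos h1, zero_smul, add_zero]
        exact congrArg Additive.ofMul ((hmem v).1 h1)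
      · rw [if_neg h1, one_smul]
        have h2 : v0⁻¹ * v ∈ K := by
          rw [Subgroup.mul_mem_iff_of_index_two hidx, inv_mem_iff]
          exact ⟨fun h0 => absurd h0 hv0, fun h0 => absurd h0 h1⟩
        have h3 := (hmem _).1 h2
        rw [smul_mul', smul_inv'] at h3
        have h4 : d • v = v * (d • v0 * v0) := by
          have h5 : v0⁻¹ = v0 := inv_eq_of_mul_eq_one_left (hA.sq v0)
          have h6 : d • v = (d • v0) * (v0⁻¹ * v) := by
            rw [← h3, mul_inv_cancel_left]
          rw [h6, h5, hA.comm v, mul_assoc]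
        exact congrArg Additive.ofMul h4
  have hG : Gen X (Additive V) T M :=
    { faith := fun g hg => hA.faith g fun v => hg (Additive.ofMul v)
      le := hA.TM
      ne := hA.Mne
      max := hA.max
      core := hA.core
      tv := ⟨d, hTv.mem⟩ }
  obtain ⟨k, m, w, h⟩ := hG.main
  refine ⟨noOver h i, ?_⟩
  rcases Nat.lt_or_ge m 2 with hm | hm
  · have hm1 : m = 1 := by have := h.m_pos; omega
    subst hm1
    exact Or.inl ⟨ZMod 2, inferInstance, inferInstance, inferInstance, k, h.k_pos, ⟨absNat h i⟩⟩
  · exact Or.inr ⟨k, m, h.k_pos, hm, ⟨absSym h i⟩⟩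

/-- the same for an offender of order 2 -/
theorem two_of_off [Finite X] [Finite V] (hA : Abs X V T M) {A : Subgroup X} (hO : AOff V A) (h2 : Nat.card A = 2) :
    ANoOver X V ∧ AConcl (T : Subgroup X) V := by
  obtain ⟨d, hd, hd1⟩ : ∃ d ∈ A, d ≠ 1 := by
    by_contra hcon
    push Not at hcon
    exact hO.ne (eq_bot_iff.2 fun x hx => Subgroup.mem_bot.2 (hcon x hx))
  refine two hA hd1 ?_
  refine le_trans ?_ (hO.le.trans h2.le)
  have h3 : cv V (A : Set X) ≤ cv V ({d} : Set X) := Cfsg.Agent.ClassTwoFusion.Quad.cv_anti (Set.singleton_subset_iff.2 hd)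
  exact Nat.le_of_dvd (Nat.pos_of_ne_zero Subgroup.index_ne_zero_of_finite) (Subgroup.index_dvd_of_le h3)

end Cfsg.Agent.Omega.FFBr.Two
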