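import Cfsg.Agent.Omega.FFBr.Main
import Cfsg.Agent.Omega.FFThmM

/-!
# SQ0: the abstract FF theorem implies `FFThm.StmtM` (module form)
-/

set_option autoImplicit false
set_option linter.unusedSectionVars false

namespace Cfsg.Agent.Omega.FFBr

open Subgroup Cfsg Cfsg.Agent.ZN Cfsg.Agent.ZN.ChoiceBase Cfsg.Agent.ZN.ChoiceSit Cfsg.Agent.Omega.MinPar
open Cfsg.Agent.Omega.FrameFF Cfsg.Agent.MinSimple.MinParabolic Cfsg.Agent.Omega.FFThm
open Cfsg.Agent.Lib.SL2Mat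
open Cfsg.Agent.Omega.NatPair (ap)

universe u

variable {G : Type u} [Group G] {H V : Subgroup G}

theorem im_comm_of_elemM (h : H ≤ normalizer (V : Set G)) {A : Subgroup G} (hA : A ≤ H) (he : ElemM V A) :
    ∀ a ∈ im h A, ∀ b ∈ im h A, a * b = b * a := by
  rintro _ ⟨a, ha, rfl⟩ _ ⟨b, hb, rfl⟩
  have h1 : pr h (a * b * a⁻¹ * b⁻¹) = 1 := by
    obtain ⟨a, ha'⟩ := a
    obtain ⟨b, hb'⟩ := b
    exact (pr_eq_one h).2 (he.comm a ha b hb)
  rw [map_mul, map_mul, map_mul, map_inv, map_inv] at h1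
  exact mul_inv_eq_iff_eq_mul.1 (mul_inv_eq_one.1 h1)

theorem im_sq_of_elemM (h : H ≤ normalizer (V : Set G)) {A : Subgroup G} (hA : A ≤ H) (he : ElemM V A) :
    ∀ a ∈ im h A, a * a = 1 := by
  rintro _ ⟨a, ha, rfl⟩
  have h1 : pr h (a ^ 2) = 1 := by
    obtain ⟨a, ha'⟩ := a
    exact (pr_eq_one h).2 (he.sq a ha)
  rw [← map_mul, ← sq]
  exact h1

theorem aoff_of_offM [Finite G] (h : H ≤ normalizer (V : Set G)) {A : Subgroup G} (hA : A ≤ H) (ho : OffM V A) :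
    AOff V (im h A) where
  comm := im_comm_of_elemM h hA ho.toElemM
  sq := im_sq_of_elemM h hA ho.toElemM
  ne := by
    intro h1
    apply ho.ne
    intro a ha
    have h2 : pr h ⟨a, hA ha⟩ ∈ im h A := ⟨⟨a, hA ha⟩, ha, rfl⟩
    rw [h1, mem_bot, pr_eq_one] at h2
    exact h2
  le := by
    have h1 := card_im h hA
    have h2 := card_cv_im h hA
    have h3 := ho.le
    rw [← h1, ← h2] at h3
    have h4 : 0 < Nat.card ↥(A ⊓ centralizer (V : Set G)) := Nat.card_pos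
    have h5 : 0 < Nat.card ↥(V ⊓ centralizer (A : Set G)) := Nat.card_pos
    have h6 : (ClassTwoFusion.Quad.cv V (im h A : Set (XX h))).index *
        (Nat.card ↥(V ⊓ centralizer (A : Set G)) * Nat.card ↥(A ⊓ centralizer (V : Set G))) ≤
        Nat.card (im h A) * (Nat.card ↥(V ⊓ centralizer (A : Set G)) * Nat.card ↥(A ⊓ centralizer (V : Set G))) := by
      calc _ = Nat.card ↥(V ⊓ centralizer (A : Set G)) * (ClassTwoFusion.Quad.cv V (im h A : Set (XX h))).index *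
            Nat.card ↥(A ⊓ centralizer (V : Set G)) := by ring
        _ ≤ Nat.card (im h A) * Nat.card ↥(A ⊓ centralizer (V : Set G)) *
            Nat.card ↥(V ⊓ centralizer (A : Set G)) := h3
        _ = _ := by ring
    exact Nat.le_of_mul_le_mul_right h6 (Nat.mul_pos h5 h4)

theorem noOverM_of [Finite G] (h : H ≤ normalizer (V : Set G)) (hn : ANoOver (XX h) V) : NoOverM V H := by
  intro A hA he
  have h1 := card_im h hA
  have h2 := card_cv_im h hA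
  have h3 : Nat.card (im h A) ≤ (ClassTwoFusion.Quad.cv V (im h A : Set (XX h))).index :=
    hn _ (im_comm_of_elemM h hA he) (im_sq_of_elemM h hA he)
  rw [← h1, ← h2]
  calc _ = Nat.card (im h A) * (Nat.card ↥(V ⊓ centralizer (A : Set G)) * Nat.card ↥(A ⊓ centralizer (V : Set G))) := by
        ring
    _ ≤ (ClassTwoFusion.Quad.cv V (im h A : Set (XX h))).index *
        (Nat.card ↥(V ⊓ centralizer (A : Set G)) * Nat.card ↥(A ⊓ centralizer (V : Set G))) :=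
        Nat.mul_le_mul_right _ h3
    _ = _ := by ring

/-- **bridge B2, natural case, module form** -/
noncomputable def natKM_of [Finite G] {T : Subgroup G} (hTH : T ≤ H) (h : H ≤ normalizer (zl T H : Set G))
    {S : Subgroup (XX h)}
    (hS : ∀ x : XX h, x ∈ S ↔ ∃ t : H, (t : G) ∈ T ∧ pr h t = x) {F : Type} [Field F] {k : ℕ}
    (a : AbsNat F S (zl T H) k) : NatKM F T H (zl T H) (cv T H) k where
  toNatK := natK_of hTH h hS a
  offM A hA ho := by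
    obtain ⟨I, h1, h2⟩ := a.off (im h A) (by
      rintro _ ⟨t, ht, rfl⟩
      exact (hS _).2 ⟨t, hA ht, rfl⟩) (aoff_of_offM h (hA.trans hTH) ho)
    refine ⟨I, fun t ht => ?_, fun b hb => ?_⟩
    · obtain ⟨b, hb, hb'⟩ := h1 (pr h ⟨t, hTH (hA ht)⟩) ⟨⟨t, hTH (hA ht)⟩, ht, rfl⟩
      exact ⟨b, hb, (actsSL_of h a.e (hTH (hA ht)) _).2 hb'⟩
    · obtain ⟨_, ⟨⟨t, ht⟩, htA, rfl⟩, hb'⟩ := h2 b hb
      exact ⟨t, htA, (actsSL_of h a.e ht _).2 hb'⟩

/-- **bridge B2, symmetric case, module form** -/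
noncomputable def symKM_of [Finite G] {T : Subgroup G} (hTH : T ≤ H) (h : H ≤ normalizer (zl T H : Set G))
    {S : Subgroup (XX h)}
    (hS : ∀ x : XX h, x ∈ S ↔ ∃ t : H, (t : G) ∈ T ∧ pr h t = x) {k m : ℕ}
    (a : AbsSym S (zl T H) k m) : SymKM T H (zl T H) (cv T H) k m where
  toSymK := symK_of hTH h hS a
  offM A hA ho := by
    obtain ⟨h1, h2⟩ := a.off (im h A) (by
      rintro _ ⟨t, ht, rfl⟩
      exact (hS _).2 ⟨t, hA ht, rfl⟩) (aoff_of_offM h (hA.trans hTH) ho)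
    refine ⟨fun t ht => (cen_iff h (hTH (hA ht))).2 (h1 _ ⟨⟨t, hTH (hA ht)⟩, ht, rfl⟩), fun t ht => ?_⟩
    obtain ⟨τ, h3, h4⟩ := h2 (pr h ⟨t, hTH (hA ht)⟩) ⟨⟨t, hTH (hA ht)⟩, ht, rfl⟩
    refine ⟨τ, (actsSym_of h a.e (hTH (hA ht)) 1 τ).2 h3, fun i x hx => ?_⟩
    obtain ⟨h5, _, ⟨⟨b, hb⟩, hbA, rfl⟩, h6⟩ := h4 i x hx
    exact ⟨h5, b, hbA, (actsSym_of h a.e hb _ _).2 h6⟩

/-- **the abstract FF theorem implies the FF theorem, module form** -/
theorem stmtM_of (hA : AStmt.{u}) : FFThm.StmtM.{u} := by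
  intro G _ _ T H hT hmin h2 ⟨A, hAH, ho⟩
  have h : H ≤ normalizer (zl T H : Set G) := MinSimple.VModule.le_normalizer_zl T H
  have hc : ¬ H ≤ centralizer (zl T H : Set G) := fun h1 => ho.ne (hAH.trans h1)
  obtain ⟨S, M, hM, hS⟩ := abs_of hT hmin h2 hc h
  obtain ⟨h3, h4⟩ := hA (XX h) (zl T H) S M hM ⟨im h A, aoff_of_offM h hAH ho⟩
  refine ⟨noOverM_of h h3, ?_⟩
  rcases h4 with ⟨F, i1, i2, i3, k, hk, ⟨a⟩⟩ | ⟨k, m, hk, hm, ⟨a⟩⟩
  · exact Or.inl ⟨F, i1, i2, i3, k, hk, ⟨natKM_of hmin.le h hS a⟩⟩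
  · exact Or.inr ⟨k, m, hk, hm, ⟨symKM_of hmin.le h hS a⟩⟩

end Cfsg.Agent.Omega.FFBr
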