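import Cfsg.Agent.Omega.FFBr.Glue
import Cfsg.Agent.Omega.FF.GlobOff

/-!
# THEOREM FF (K-free): `FFThm.Stmt`
-/

set_option autoImplicit false

namespace Cfsg.Agent.Omega.FFBr

open Cfsg.Agent.Omega.FF.Glob

universe u

theorem offStmt : Glue.OffStmt.{u} := by
  intro X V _ _ _ _ _ T k A B o E hE hO
  exact o.off hE hO.comm hO.sq hO.le

/-- **THE ABSTRACT FF THEOREM FOR MINIMAL PARABOLICS** -/
theorem aStmt : AStmt.{u} := Glue.aStmt_of offStmt

/-- **THE FF THEOREM FOR MINIMAL PARABOLICS** -/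
theorem ffthm : FFThm.Stmt.{u} := stmt_of aStmt

end Cfsg.Agent.Omega.FFBr
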