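import Cfsg.Agent.Omega.FFBr.Act

/-!
# SQ0: the abstract FF theorem implies `FFThm.Stmt` (bridges B1 and B2)
-/

set_option autoImplicit false
set_option linter.unusedSectionVars false

namespace Cfsg.Agent.Omega.FFBr

open Subgroup Cfsg Cfsg.Agent.ZN Cfsg.Agent.ZN.ChoiceBase Cfsg.Agent.ZN.ChoiceSit Cfsg.Agent.Omega.MinPar
open Cfsg.Agent.Omega.FrameFF Cfsg.Agent.MinSimple.MinParabolic Cfsg.Agent.Omega.FFThm
open Cfsg.Agent.Lib.SL2Mat
open Cfsg.Agent.Omega.NatPair (ap)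

universe u

variable {G : Type u} [Group G] {H V : Subgroup G}

/-! ### Images -/

/-- the group induced by `A` on `V` -/
def im (h : H ≤ normalizer (V : Set G)) (A : Subgroup G) : Subgroup (XX h) := (A.subgroupOf H).map (pr h)

theorem mem_im {h : H ≤ normalizer (V : Set G)} {A : Subgroup G} {x : XX h} :
    x ∈ im h A ↔ ∃ a : H, (a : G) ∈ A ∧ pr h a = x := Iff.rfl

theorem card_im [Finite G] (h : H ≤ normalizer (V : Set G)) {A : Subgroup G} (hA : A ≤ H) :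
    Nat.card (im h A) * Nat.card ↥(A ⊓ centralizer (V : Set G)) = Nat.card A := by
  have h1 : (pr h).ker.relIndex (A.subgroupOf H) = Nat.card (im h A) := relIndex_ker _ _
  rw [ker_pr] at h1
  have h2 : ((centralizer (V : Set G)).subgroupOf H).relIndex (A.subgroupOf H) =
      (centralizer (V : Set G)).relIndex A := by
    rw [relIndex_subgroupOf hA]
  rw [h2] at h1
  rw [← h1, inf_comm, mul_comm]
  have h3 := (((centralizer (V : Set G)).subgroupOf A).card_mul_index)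
  have h4 : Nat.card ((centralizer (V : Set G)).subgroupOf A) = Nat.card ↥(centralizer (V : Set G) ⊓ A) := by
    rw [← inf_subgroupOf_right]
    exact Nat.card_congr (subgroupOfEquivOfLe inf_le_right).toEquiv
  rw [h4] at h3
  exact h3

theorem mem_cv_im (h : H ≤ normalizer (V : Set G)) {A : Subgroup G} (hA : A ≤ H) (v : V) :
    v ∈ ClassTwoFusion.Quad.cv V (im h A : Set (XX h)) ↔ (v : G) ∈ centralizer (A : Set G) := by
  rw [mem_centralizer_iff]
  constructor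
  · intro hv a ha
    exact (pr_smul_eq_iff h).1 (hv (pr h ⟨a, hA ha⟩) ⟨⟨a, hA ha⟩, ha, rfl⟩)
  · rintro hv _ ⟨a, ha, rfl⟩
    exact (pr_smul_eq_iff h).2 (hv a ha)

theorem card_cv_im [Finite G] (h : H ≤ normalizer (V : Set G)) {A : Subgroup G} (hA : A ≤ H) :
    Nat.card ↥(V ⊓ centralizer (A : Set G)) * (ClassTwoFusion.Quad.cv V (im h A : Set (XX h))).index = Nat.card V := by
  rw [← (ClassTwoFusion.Quad.cv V (im h A : Set (XX h))).card_mul_index]
  congr 1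
  refine Nat.card_congr ⟨fun x => ⟨⟨x, x.2.1⟩, (mem_cv_im h hA _).2 x.2.2⟩,
    fun y => ⟨(y : V), (y : V).2, (mem_cv_im h hA _).1 y.2⟩, fun x => rfl, fun y => rfl⟩

theorem aoff_of [Finite G] (h : H ≤ normalizer (V : Set G)) {A : Subgroup G} (hA : A ≤ H) (ho : Off V A) :
    AOff V (im h A) where
  comm := by
    rintro _ ⟨a, ha, rfl⟩ _ ⟨b, hb, rfl⟩
    rw [← map_mul, ← map_mul]
    congr 1
    apply Subtype.ext
    have := ho.elem.1
    exact congrArg (Subtype.val : A → G) (mul_comm' (⟨(a : G), ha⟩ : A) ⟨(b : G), hb⟩)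
  sq := by
    rintro _ ⟨a, ha, rfl⟩
    rw [← map_mul, ← map_one (pr h)]
    congr 1
    apply Subtype.ext
    have := ho.elem.2 a ha
    rw [sq] at this
    exact this
  ne := by
    intro h1
    apply ho.ne
    intro a ha
    have h2 : pr h ⟨a, hA ha⟩ ∈ im h A := ⟨⟨a, hA ha⟩, ha, rfl⟩
    rw [h1, mem_bot, pr_eq_one] at h2
    exact h2
  le := by
    have h1 := card_im h hA
    have h2 := card_cv_im h hA
    have h3 := ho.le
    rw [← h1, ← h2] at h3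
    have h4 : 0 < Nat.card ↥(A ⊓ centralizer (V : Set G)) := Nat.card_pos
    have h5 : 0 < Nat.card ↥(V ⊓ centralizer (A : Set G)) := Nat.card_pos
    have h6 : (ClassTwoFusion.Quad.cv V (im h A : Set (XX h))).index *
        (Nat.card ↥(V ⊓ centralizer (A : Set G)) * Nat.card ↥(A ⊓ centralizer (V : Set G))) ≤
        Nat.card (im h A) * (Nat.card ↥(V ⊓ centralizer (A : Set G)) * Nat.card ↥(A ⊓ centralizer (V : Set G))) := by
      calc _ = Nat.card ↥(V ⊓ centralizer (A : Set G)) * (ClassTwoFusion.Quad.cv V (im h A : Set (XX h))).index *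
            Nat.card ↥(A ⊓ centralizer (V : Set G)) := by ring
        _ ≤ Nat.card (im h A) * Nat.card ↥(A ⊓ centralizer (V : Set G)) *
            Nat.card ↥(V ⊓ centralizer (A : Set G)) := h3
        _ = _ := by ring
    exact Nat.le_of_mul_le_mul_right h6 (Nat.mul_pos h5 h4)

theorem noOver_of [Finite G] (h : H ≤ normalizer (V : Set G)) (hn : ANoOver (XX h) V) : NoOver V H := by
  intro A hA he
  have h1 := card_im h hA
  have h2 := card_cv_im h hA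
  have h3 : Nat.card (im h A) ≤ (ClassTwoFusion.Quad.cv V (im h A : Set (XX h))).index := by
    apply hn
    · rintro _ ⟨a, ha, rfl⟩ _ ⟨b, hb, rfl⟩
      rw [← map_mul, ← map_mul]
      congr 1
      apply Subtype.ext
      have := he.1
      exact congrArg (Subtype.val : A → G) (mul_comm' (⟨(a : G), ha⟩ : A) ⟨(b : G), hb⟩)
    · rintro _ ⟨a, ha, rfl⟩
      rw [← map_mul, ← map_one (pr h)]
      congr 1
      apply Subtype.ext
      have := he.2 a ha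
      rw [sq] at this
      exact this
  rw [← h1, ← h2]
  calc _ = Nat.card (im h A) * (Nat.card ↥(V ⊓ centralizer (A : Set G)) * Nat.card ↥(A ⊓ centralizer (V : Set G))) := by
        ring
    _ ≤ (ClassTwoFusion.Quad.cv V (im h A : Set (XX h))).index *
        (Nat.card ↥(V ⊓ centralizer (A : Set G)) * Nat.card ↥(A ⊓ centralizer (V : Set G))) :=
        Nat.mul_le_mul_right _ h3
    _ = _ := by ring

/-! ### `O²` -/

/-- an element of odd order of the image is the image of an element of odd order -/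
theorem exists_odd {A B : Type*} [Group A] [Group B] [Finite A] {f : A →* B} {a : A} (ha : Odd (orderOf (f a))) :
    ∃ n : ℕ, Odd (orderOf (a ^ n)) ∧ f (a ^ n) = f a := by
  obtain ⟨k, r, hr, hk⟩ := Nat.exists_eq_two_pow_mul_odd (orderOf_pos a).ne'
  have hdvd : orderOf (f a) ∣ r := by
    have h1 := orderOf_map_dvd f a
    rw [hk] at h1
    exact (Nat.Coprime.pow_right k (Nat.coprime_two_right.2 ha)).dvd_of_dvd_mul_left h1
  have hco : Nat.Coprime (2 ^ k) r := Nat.Coprime.pow_left k (Nat.coprime_two_left.2 hr)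
  obtain ⟨n, hn1, hn2⟩ := Nat.chineseRemainder hco 0 1
  refine ⟨n, ?_, ?_⟩
  · have h1 : (a ^ n) ^ r = 1 := by
      rw [← pow_mul]
      have h2 : 2 ^ k ∣ n := (Nat.modEq_zero_iff_dvd).1 hn1
      obtain ⟨c, rfl⟩ := h2
      rw [show 2 ^ k * c * r = orderOf a * c by rw [hk]; ring, pow_mul, pow_orderOf_eq_one, one_pow]
    exact Odd.of_dvd_nat hr (orderOf_dvd_of_pow_eq_one h1)
  · rw [map_pow]
    have h2 : n ≡ 1 [MOD orderOf (f a)] := Nat.ModEq.of_dvd hdvd hn2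
    rw [pow_eq_pow_iff_modEq.2 h2, pow_one]

theorem mem_odd_iff [Finite G] (h : H ≤ normalizer (V : Set G)) (v : V) :
    v ∈ odd (XX h) V ↔ (v : G) ∈ centralizer (MinSimple.VModule.oddGen H : Set G) := by
  constructor
  · intro hv
    rw [← zpowers_le, le_centralizer_iff, MinSimple.VModule.oddGen_def, closure_le]
    rintro x ⟨hx, ho⟩
    have h1 : pr h ⟨x, hx⟩ • v = v := by
      apply hv
      have h2 := orderOf_map_dvd (pr h) ⟨x, hx⟩
      have h3 : orderOf (⟨x, hx⟩ : H) = orderOf x := orderOf_mk x hx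
      rw [h3] at h2
      exact Odd.of_dvd_nat ho h2
    rw [pr_smul_eq_iff] at h1
    rw [SetLike.mem_coe, mem_centralizer_iff]
    intro y hy
    obtain ⟨n, rfl⟩ := mem_zpowers_iff.1 hy
    have h2 : Commute x (v : G) := h1
    exact (h2.zpow_right n).symm
  · intro hv x hx
    obtain ⟨g, rfl⟩ := pr_surjective h x
    obtain ⟨n, hn1, hn2⟩ := exists_odd hx
    rw [← hn2, pr_smul_eq_iff]
    refine mem_centralizer_iff.1 hv _ (MinSimple.VModule.mem_oddGen (g ^ n).2 ?_)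
    rwa [orderOf_coe]

/-! ### Coordinates -/

open Classical in
/-- coordinates on `G` -/
noncomputable def ex {α : Type*} [Zero α] (e : V → α) (g : G) : α := if hg : g ∈ V then e ⟨g, hg⟩ else 0

theorem ex_of {α : Type*} [Zero α] (e : V → α) {g : G} (hg : g ∈ V) : ex e g = e ⟨g, hg⟩ := dif_pos hg

theorem ex_conj {α : Type*} [Zero α] (h : H ≤ normalizer (V : Set G)) (e : V → α) {g v : G} (hg : g ∈ H) (hv : v ∈ V) :
    ex e (g * v * g⁻¹) = e (pr h ⟨g, hg⟩ • (⟨v, hv⟩ : V)) := by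
  rw [ex_of e ((mem_normalizer_iff.1 (h hg) v).1 hv)]
  rfl

theorem actsSL_of [Finite G] {T : Subgroup G} (h : H ≤ normalizer (zl T H : Set G)) {F : Type} [Field F] {k : ℕ}
    (e : zl T H → Fin k → Fin 2 → F) {g : G} (hg : g ∈ H) (A : Fin k → Matrix.SpecialLinearGroup (Fin 2) F) :
    ActsSL (ex e) (zl T H) (cv T H) g A ↔ AActs e (pr h ⟨g, hg⟩) A := by
  constructor
  · rintro ⟨h1, h2⟩
    refine ⟨fun v i => ?_, fun d hd => ?_⟩
    · have := h1 v v.2 i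
      rw [ex_conj h e hg v.2, ex_of e v.2] at this
      exact this
    · rw [pr_smul_eq_iff]
      exact h2 d ⟨d.2, (mem_odd_iff h d).1 hd⟩
  · rintro ⟨h1, h2⟩
    refine ⟨fun v hv i => ?_, fun d hd => ?_⟩
    · rw [ex_conj h e hg hv, ex_of e hv]
      exact h1 _ i
    · exact (pr_smul_eq_iff h).1 (h2 ⟨d, hd.1⟩ ((mem_odd_iff h ⟨d, hd.1⟩).2 hd.2))

/-- **bridge B2, natural case** -/
noncomputable def natK_of [Finite G] {T : Subgroup G} (hTH : T ≤ H) (h : H ≤ normalizer (zl T H : Set G))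
    {S : Subgroup (XX h)}
    (hS : ∀ x : XX h, x ∈ S ↔ ∃ t : H, (t : G) ∈ T ∧ pr h t = x) {F : Type} [Field F] {k : ℕ}
    (a : AbsNat F S (zl T H) k) : NatK F T H (zl T H) (cv T H) k where
  e := ex a.e
  mul v hv w hw := by
    rw [ex_of a.e hv, ex_of a.e hw, ex_of a.e (mul_mem hv hw)]
    exact a.mul ⟨v, hv⟩ ⟨w, hw⟩
  surj x := by
    obtain ⟨v, hv⟩ := a.surj x
    exact ⟨v, v.2, by rw [ex_of a.e v.2]; exact hv⟩
  ker v hv := by
    rw [ex_of a.e hv, a.ker, mem_odd_iff]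
    exact ⟨fun h1 => ⟨hv, h1⟩, fun h1 => h1.2⟩
  lift A := by
    obtain ⟨x, hx⟩ := a.lift A
    obtain ⟨⟨g, hg⟩, rfl⟩ := pr_surjective h x
    exact ⟨g, hg, (actsSL_of h a.e hg A).2 hx⟩
  norm g hg x hx A hA := by
    obtain ⟨B, hB⟩ := a.norm (pr h ⟨g, hg⟩) (pr h ⟨x, hx⟩) A fun v i => by
      have := hA v v.2 i
      rw [ex_conj h a.e hx v.2, ex_of a.e v.2] at this
      exact this
    refine ⟨B, fun v hv i => ?_⟩
    rw [ex_conj h a.e (mul_mem (mul_mem hg hx) (inv_mem hg)) hv, ex_of a.e hv]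
    have h1 := hB ⟨v, hv⟩ i
    rw [← map_inv, ← map_mul, ← map_mul] at h1
    exact h1
  perm g hg := by
    obtain ⟨σ, hσ⟩ := a.perm (pr h ⟨g, hg⟩)
    refine ⟨σ, fun v hv i => ?_⟩
    rw [ex_conj h a.e hg hv, ex_of a.e hv]
    exact hσ _ i
  trans i j := by
    obtain ⟨x, hx, hx'⟩ := a.trans i j
    obtain ⟨⟨t, ht⟩, htT, rfl⟩ := (hS x).1 hx
    refine ⟨t, htT, fun v hv => ?_⟩
    rw [ex_conj h a.e ht hv, ex_of a.e hv]
    exact hx' _
  line t ht := by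
    obtain ⟨σ, hσ⟩ := a.line (pr h ⟨t, hTH ht⟩) ((hS _).2 ⟨⟨t, hTH ht⟩, ht, rfl⟩)
    refine ⟨σ, fun v hv i => ?_⟩
    rw [ex_conj h a.e (hTH ht) hv, ex_of a.e hv]
    exact hσ _ i
  unip b := by
    obtain ⟨x, hx, hx'⟩ := a.unip b
    obtain ⟨⟨t, ht⟩, htT, rfl⟩ := (hS x).1 hx
    exact ⟨t, htT, (actsSL_of h a.e ht _).2 hx'⟩
  gen K hTK hK := by
    have h1 : (K.subgroupOf H).map (pr h) = ⊤ := by
      apply a.gen
      · intro x hx
        obtain ⟨t, ht, rfl⟩ := (hS x).1 hx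
        exact ⟨t, hTK ht, rfl⟩
      · intro x A hA
        obtain ⟨⟨g, hg⟩, rfl⟩ := pr_surjective h x
        exact ⟨⟨g, hg⟩, hK g hg A ((actsSL_of h a.e hg A).2 hA), rfl⟩
    intro g hg
    have h2 : pr h ⟨g, hg⟩ ∈ (K.subgroupOf H).map (pr h) := by rw [h1]; exact mem_top _
    obtain ⟨⟨y, hy⟩, hyK, hyg⟩ := h2
    have hyK' : y ∈ K := hyK
    -- `g y⁻¹` centralises `V`, so it acts as `1`
    have h3 : pr h (⟨g, hg⟩ * ⟨y, hy⟩⁻¹) = 1 := by rw [map_mul, map_inv, hyg, mul_inv_cancel]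
    have h4 : g * y⁻¹ ∈ K := by
      refine hK _ (mul_mem hg (inv_mem hy)) 1 ((actsSL_of h a.e (mul_mem hg (inv_mem hy)) 1).2 ?_)
      have h5 : pr h ⟨g * y⁻¹, mul_mem hg (inv_mem hy)⟩ = 1 := h3
      rw [h5]
      refine ⟨fun v i => ?_, fun d _ => one_smul _ _⟩
      rw [one_smul]
      exact (NatPair.ap_one _).symm
    have h5 := mul_mem h4 hyK'
    rwa [inv_mul_cancel_right] at h5
  off A hA ho := by
    obtain ⟨I, h1, h2⟩ := a.off (im h A) (by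
      rintro _ ⟨t, ht, rfl⟩
      exact (hS _).2 ⟨t, hA ht, rfl⟩) (aoff_of h (hA.trans hTH) ho)
    refine ⟨I, fun t ht => ?_, fun b hb => ?_⟩
    · obtain ⟨b, hb, hb'⟩ := h1 (pr h ⟨t, hTH (hA ht)⟩) ⟨⟨t, hTH (hA ht)⟩, ht, rfl⟩
      exact ⟨b, hb, (actsSL_of h a.e (hTH (hA ht)) _).2 hb'⟩
    · obtain ⟨_, ⟨⟨t, ht⟩, htA, rfl⟩, hb'⟩ := h2 b hb
      exact ⟨t, htA, (actsSL_of h a.e ht _).2 hb'⟩

theorem actsSym_of [Finite G] {T : Subgroup G} (h : H ≤ normalizer (zl T H : Set G)) {k n : ℕ}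
    (e : zl T H → Fin k → Fin n → ZMod 2) {g : G} (hg : g ∈ H) (σ : Equiv.Perm (Fin k))
    (τ : Fin k → Equiv.Perm (Fin n)) : ActsSym (ex e) (zl T H) g σ τ ↔ AActsSym e (pr h ⟨g, hg⟩) σ τ := by
  constructor
  · intro h1 v i x
    have := h1 v v.2 i x
    rw [ex_conj h e hg v.2, ex_of e v.2] at this
    exact this
  · intro h1 v hv i x
    rw [ex_conj h e hg hv, ex_of e hv]
    exact h1 _ i x

theorem cen_iff [Finite G] {T : Subgroup G} (h : H ≤ normalizer (zl T H : Set G)) {g : G} (hg : g ∈ H) :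
    (∀ d ∈ cv T H, g * d = d * g) ↔ ∀ d ∈ odd (XX h) (zl T H), pr h ⟨g, hg⟩ • d = d := by
  constructor
  · intro h1 d hd
    rw [pr_smul_eq_iff]
    exact h1 d ⟨d.2, (mem_odd_iff h d).1 hd⟩
  · intro h1 d hd
    exact (pr_smul_eq_iff h).1 (h1 ⟨d, hd.1⟩ ((mem_odd_iff h ⟨d, hd.1⟩).2 hd.2))

/-- **bridge B2, symmetric case** -/
noncomputable def symK_of [Finite G] {T : Subgroup G} (hTH : T ≤ H) (h : H ≤ normalizer (zl T H : Set G))
    {S : Subgroup (XX h)}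
    (hS : ∀ x : XX h, x ∈ S ↔ ∃ t : H, (t : G) ∈ T ∧ pr h t = x) {k m : ℕ}
    (a : AbsSym S (zl T H) k m) : SymK T H (zl T H) (cv T H) k m where
  e := ex a.e
  mul v hv w hw := by
    rw [ex_of a.e hv, ex_of a.e hw, ex_of a.e (mul_mem hv hw)]
    exact a.mul ⟨v, hv⟩ ⟨w, hw⟩
  even v hv i := by
    rw [ex_of a.e hv]
    exact a.even _ i
  surj y hy := by
    obtain ⟨v, hv⟩ := a.surj y hy
    exact ⟨v, v.2, by rw [ex_of a.e v.2]; exact hv⟩
  ker v hv := by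
    rw [ex_of a.e hv, a.ker, mem_odd_iff]
    exact ⟨fun h1 => ⟨hv, h1⟩, fun h1 => h1.2⟩
  lift τ := by
    obtain ⟨x, hx, hx'⟩ := a.lift τ
    obtain ⟨⟨g, hg⟩, rfl⟩ := pr_surjective h x
    exact ⟨g, hg, (actsSym_of h a.e hg 1 τ).2 hx, (cen_iff h hg).2 hx'⟩
  perm g hg := by
    obtain ⟨σ, τ, h1⟩ := a.perm (pr h ⟨g, hg⟩)
    exact ⟨σ, τ, (actsSym_of h a.e hg σ τ).2 h1⟩
  trans i j := by
    obtain ⟨x, hx, σ, τ, h1, h2⟩ := a.trans i j
    obtain ⟨⟨t, ht⟩, htT, rfl⟩ := (hS x).1 hx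
    exact ⟨t, htT, σ, τ, (actsSym_of h a.e ht σ τ).2 h1, h2⟩
  fix0 t ht σ τ h1 := a.fix0 (pr h ⟨t, hTH ht⟩) ((hS _).2 ⟨⟨t, hTH ht⟩, ht, rfl⟩) σ τ
    ((actsSym_of h a.e (hTH ht) σ τ).1 h1)
  gen K hTK hK := by
    have h1 : (K.subgroupOf H).map (pr h) = ⊤ := by
      apply a.gen
      · intro x hx
        obtain ⟨t, ht, rfl⟩ := (hS x).1 hx
        exact ⟨t, hTK ht, rfl⟩
      · intro x τ hτ hd
        obtain ⟨⟨g, hg⟩, rfl⟩ := pr_surjective h x
        exact ⟨⟨g, hg⟩, hK g hg τ ((actsSym_of h a.e hg 1 τ).2 hτ) ((cen_iff h hg).2 hd), rfl⟩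
    intro g hg
    have h2 : pr h ⟨g, hg⟩ ∈ (K.subgroupOf H).map (pr h) := by rw [h1]; exact mem_top _
    obtain ⟨⟨y, hy⟩, hyK, hyg⟩ := h2
    have hyK' : y ∈ K := hyK
    have h3 : pr h (⟨g, hg⟩ * ⟨y, hy⟩⁻¹) = 1 := by rw [map_mul, map_inv, hyg, mul_inv_cancel]
    have h4 : g * y⁻¹ ∈ K := by
      have h5 : pr h ⟨g * y⁻¹, mul_mem hg (inv_mem hy)⟩ = 1 := h3
      refine hK _ (mul_mem hg (inv_mem hy)) 1 ((actsSym_of h a.e (mul_mem hg (inv_mem hy)) 1 1).2 ?_)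
        ((cen_iff h (mul_mem hg (inv_mem hy))).2 ?_)
      · rw [h5]
        intro v i x
        rw [one_smul]
        rfl
      · rw [h5]
        exact fun d _ => one_smul _ _
    have h5 := mul_mem h4 hyK'
    rwa [inv_mul_cancel_right] at h5
  off A hA ho := by
    obtain ⟨h1, h2⟩ := a.off (im h A) (by
      rintro _ ⟨t, ht, rfl⟩
      exact (hS _).2 ⟨t, hA ht, rfl⟩) (aoff_of h (hA.trans hTH) ho)
    refine ⟨fun t ht => (cen_iff h (hTH (hA ht))).2 (h1 _ ⟨⟨t, hTH (hA ht)⟩, ht, rfl⟩), fun t ht => ?_⟩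
    obtain ⟨τ, h3, h4⟩ := h2 (pr h ⟨t, hTH (hA ht)⟩) ⟨⟨t, hTH (hA ht)⟩, ht, rfl⟩
    refine ⟨τ, (actsSym_of h a.e (hTH (hA ht)) 1 τ).2 h3, fun i x hx => ?_⟩
    obtain ⟨h5, _, ⟨⟨b, hb⟩, hbA, rfl⟩, h6⟩ := h4 i x hx
    exact ⟨h5, b, hbA, (actsSym_of h a.e hb _ _).2 h6⟩

/-- **the abstract FF theorem implies the FF theorem** -/
theorem stmt_of (hA : AStmt.{u}) : FFThm.Stmt.{u} := by
  intro G _ _ T H hT hmin h2 ⟨A, hAH, ho⟩
  have h : H ≤ normalizer (zl T H : Set G) := MinSimple.VModule.le_normalizer_zl T H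
  have hc : ¬ H ≤ centralizer (zl T H : Set G) := fun h1 => ho.ne (hAH.trans h1)
  obtain ⟨S, M, hM, hS⟩ := abs_of hT hmin h2 hc h
  obtain ⟨h3, h4⟩ := hA (XX h) (zl T H) S M hM ⟨im h A, aoff_of h hAH ho⟩
  refine ⟨noOver_of h h3, ?_⟩
  rcases h4 with ⟨F, i1, i2, i3, k, hk, ⟨a⟩⟩ | ⟨k, m, hk, hm, ⟨a⟩⟩
  · exact Or.inl ⟨F, i1, i2, i3, k, hk, ⟨natK_of hmin.le h hS a⟩⟩
  · exact Or.inr ⟨k, m, hk, hm, ⟨symK_of hmin.le h hS a⟩⟩

end Cfsg.Agent.Omega.FFBr
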