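import Cfsg.Agent.Omega.FFBr.Final
import Cfsg.Agent.Omega.FFBr.MainM

/-!
# THEOREM FF (K-free), module form: `FFThm.StmtM`
-/

set_option autoImplicit false

namespace Cfsg.Agent.Omega.FFBr

universe u

/-- **THE FF THEOREM, MODULE FORM** -/
theorem ffthmM : FFThm.StmtM.{u} := stmtM_of aStmt

end Cfsg.Agent.Omega.FFBr
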