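import Cfsg.Agent.Omega.Transv.General

/-!
# The FF theorem for minimal parabolics, `q = 2`: coordinates on the sum of the even-subset modules

`SymMod P V T k m w` (`Omega.Transv.General`): `V = W ⊕ D`, `W` is spanned by the points `w i x` (`i ∈ Fin k`,
`x ∈ Fin (2 ^ m + 1)`), `D` is the centraliser of the transvections.

* `crd h v i : Fin (2 ^ m + 1) → ZMod 2`: the `i`-th coordinate of `v`, an even subset of the points of the summand
  `i`; the point `w i x` has the coordinate `1 + δ_x`;
* `crd_even`, `crd_surj`, `crd_eq_zero_iff`;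
* `Acts w g σ τ` : `g` permutes the points, `crd_smul`, `Acts.of_crd` : the same for the coordinates;
* `exists_lift`, `fix_D` : all the permutations of the points of the summands are induced by elements which centralise
  `D`.
-/

set_option autoImplicit false

namespace Cfsg.Agent.Omega.FFBr.Two

open Subgroup Cfsg.Agent.Omega.Transv

variable {P : Type*} [Group P] {V : Type*} [AddCommGroup V] [Module (ZMod 2) V] [DistribMulAction P V]
  {T : Sylow 2 P} {k m : ℕ} {w : Fin k → Fin (2 ^ m + 1) → V}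

/-- `g` permutes the points by `(σ, τ)` -/
def Acts (w : Fin k → Fin (2 ^ m + 1) → V) (g : P) (σ : Equiv.Perm (Fin k))
    (τ : Fin k → Equiv.Perm (Fin (2 ^ m + 1))) : Prop :=
  ∀ i x, g • w i x = w (σ i) (τ i x)

/-- the span of the points -/
abbrev spn (w : Fin k → Fin (2 ^ m + 1) → V) : Submodule (ZMod 2) V :=
  Submodule.span (ZMod 2) (Set.range fun p : Fin k × Fin (2 ^ m) => w p.1 p.2.succ)

theorem two_pow_cast (hm : 0 < m) : ((2 ^ m : ℕ) : ZMod 2) = 0 := by
  obtain ⟨n, rfl⟩ : ∃ n, m = n + 1 := ⟨m - 1, by omega⟩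
  rw [pow_succ, Nat.cast_mul]
  have : ((2 : ℕ) : ZMod 2) = 0 := by decide
  rw [this, mul_zero]

theorem sum_one (hm : 0 < m) : ∑ _x : Fin (2 ^ m), (1 : ZMod 2) = 0 := by
  rw [Finset.sum_const, Finset.card_univ, Fintype.card_fin, nsmul_eq_mul, mul_one, two_pow_cast hm]

theorem sum_one' (hm : 0 < m) : ∑ _x : Fin (2 ^ m + 1), (1 : ZMod 2) = 1 := by
  rw [Fin.sum_univ_succ, sum_one hm, add_zero]

variable (h : SymMod P V T k m w)

section crd

/-- the basis of the span -/
noncomputable def bas : Module.Basis (Fin k × Fin (2 ^ m)) (ZMod 2) (spn w) := Module.Basis.span h.indep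

theorem bas_apply (p : Fin k × Fin (2 ^ m)) : (bas h p : V) = w p.1 p.2.succ := by
  rw [bas]
  exact congrArg Subtype.val (Module.Basis.span_apply h.indep p)

/-- the projection on the span of the points -/
noncomputable def prj : V →ₗ[ZMod 2] (spn w) :=
  (spn w).projectionOnto (fixS V (closure (DD P V))) h.compl

theorem prj_w (p : Fin k × Fin (2 ^ m)) : prj h (w p.1 p.2.succ) = bas h p := by
  rw [← bas_apply h p]
  exact Submodule.projectionOnto_apply_left h.compl (bas h p)

theorem prj_eq_zero_iff {v : V} : prj h v = 0 ↔ v ∈ fixS V (closure (DD P V)) := by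
  rw [prj, Submodule.projectionOnto_apply_eq_zero_iff]

/-- the coordinates with respect to the basis -/
noncomputable def cof (p : Fin k × Fin (2 ^ m)) : V →ₗ[ZMod 2] ZMod 2 := (bas h).coord p ∘ₗ prj h

theorem cof_w (p p' : Fin k × Fin (2 ^ m)) : cof h p' (w p.1 p.2.succ) = if p = p' then 1 else 0 := by
  rw [cof, LinearMap.comp_apply, prj_w, Module.Basis.coord_apply, Module.Basis.repr_self, Finsupp.single_apply]

/-- the coordinates: even subsets; the point `w i x` is `1 + δ_x` -/
noncomputable def crd : V →ₗ[ZMod 2] (Fin k → Fin (2 ^ m + 1) → ZMod 2) :=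
  LinearMap.pi fun i => LinearMap.pi fun y =>
    (∑ x, cof h (i, x)) + (Fin.cases 0 (fun x => cof h (i, x)) y : V →ₗ[ZMod 2] ZMod 2)

theorem crd_zero (v : V) (i : Fin k) : crd h v i 0 = ∑ x, cof h (i, x) v := by
  simp [crd, LinearMap.sum_apply]

theorem crd_succ (v : V) (i : Fin k) (x : Fin (2 ^ m)) :
    crd h v i x.succ = (∑ x, cof h (i, x) v) + cof h (i, x) v := by
  simp [crd, LinearMap.sum_apply]

theorem crd_w_succ (i : Fin k) (y : Fin (2 ^ m)) (j : Fin k) (x : Fin (2 ^ m + 1)) :
    crd h (w i y.succ) j x = if i = j then 1 + (if y.succ = x then 1 else 0) else 0 := by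
  have h1 : ∀ j' x', cof h (j', x') (w i y.succ) = if i = j' ∧ y = x' then 1 else 0 := by
    intro j' x'
    have := cof_w h (i, y) (j', x')
    rw [this]
    congr 1
    rw [Prod.mk.injEq]
  have h2 : ∑ x', cof h (j, x') (w i y.succ) = if i = j then 1 else 0 := by
    rw [Finset.sum_congr rfl fun x' _ => h1 j x']
    by_cases hij : i = j
    · simp [hij]
    · simp [hij]
  rcases Fin.eq_zero_or_eq_succ x with rfl | ⟨x', rfl⟩
  · rw [crd_zero, h2]
    by_cases hij : i = j
    · simp [hij, Fin.succ_ne_zero]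
    · simp [hij]
  · rw [crd_succ, h2, h1]
    by_cases hij : i = j
    · simp [hij, Fin.succ_inj]
    · simp [hij]

include h in
theorem w_zero (i : Fin k) : w i 0 = ∑ x : Fin (2 ^ m), w i x.succ := by
  have h1 := h.sum_zero i
  rw [Fin.sum_univ_succ] at h1
  exact eq_of_add h1

theorem crd_w (i : Fin k) (y : Fin (2 ^ m + 1)) (j : Fin k) (x : Fin (2 ^ m + 1)) :
    crd h (w i y) j x = if i = j then 1 + (if y = x then 1 else 0) else 0 := by
  rcases Fin.eq_zero_or_eq_succ y with rfl | ⟨y', rfl⟩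
  · rw [w_zero h i, map_sum, Finset.sum_apply, Finset.sum_apply,
      Finset.sum_congr rfl fun y' _ => crd_w_succ h i y' j x]
    by_cases hij : i = j
    · simp only [hij, if_true]
      rw [Finset.sum_add_distrib, sum_one h.m_pos, zero_add]
      rcases Fin.eq_zero_or_eq_succ x with rfl | ⟨x', rfl⟩
      · simp [Fin.succ_ne_zero, one_add_one]
      · have h3 : ¬ (0 : Fin (2 ^ m + 1)) = x'.succ := (Fin.succ_ne_zero x').symm
        simp [Fin.succ_inj, h3]
    · simp [hij]
  · exact crd_w_succ h i y' j x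

theorem crd_eq_zero_iff {v : V} : crd h v = 0 ↔ v ∈ fixS V (closure (DD P V)) := by
  rw [← prj_eq_zero_iff h]
  constructor
  · intro h1
    have h2 : ∀ p, cof h p v = 0 := by
      rintro ⟨i, x⟩
      have h3 := crd_zero h v i
      have h4 := crd_succ h v i x
      rw [h1] at h3 h4
      rw [← h3] at h4
      simpa using h4.symm
    apply (bas h).repr.injective
    ext p
    rw [map_zero]
    exact h2 p
  · intro h1
    have h2 : ∀ p, cof h p v = 0 := by
      intro p
      rw [cof, LinearMap.comp_apply, h1, map_zero]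
    funext i x
    rcases Fin.eq_zero_or_eq_succ x with rfl | ⟨x', rfl⟩
    · rw [crd_zero]
      simp [h2]
    · rw [crd_succ]
      simp [h2]

include h in
/-- linear maps are determined by their values on the points and on the centraliser of the transvections -/
theorem ext_of {M : Type*} [AddCommGroup M] [Module (ZMod 2) M] {f g : V →ₗ[ZMod 2] M}
    (h1 : ∀ i x, f (w i x) = g (w i x)) (h2 : ∀ v ∈ fixS V (closure (DD P V)), f v = g v) : f = g := by
  have h3 : spn w ⊔ fixS V (closure (DD P V)) ≤ LinearMap.eqLocus f g := by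
    refine sup_le ?_ fun v hv => h2 v hv
    rw [spn, Submodule.span_le]
    rintro _ ⟨p, rfl⟩
    exact h1 _ _
  rw [h.compl.sup_eq_top] at h3
  ext v
  exact h3 (Submodule.mem_top (x := v))

theorem crd_even (v : V) (i : Fin k) : ∑ x, crd h v i x = 0 := by
  let f : V →ₗ[ZMod 2] ZMod 2 := ∑ x, (LinearMap.proj x ∘ₗ LinearMap.proj i ∘ₗ crd h)
  have h0 : f = 0 := by
    refine ext_of h (fun j y => ?_) fun v hv => ?_
    · simp only [f, LinearMap.sum_apply, LinearMap.comp_apply, LinearMap.proj_apply, LinearMap.zero_apply]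
      rw [Finset.sum_congr rfl fun x _ => crd_w h j y i x]
      by_cases hij : j = i
      · simp only [hij, if_true]
        rw [Finset.sum_add_distrib, sum_one' h.m_pos]
        simp [one_add_one]
      · simp [hij]
    · simp only [f, LinearMap.sum_apply, LinearMap.comp_apply, LinearMap.proj_apply, LinearMap.zero_apply]
      rw [(crd_eq_zero_iff h).2 hv]
      simp
  have h1 := LinearMap.congr_fun h0 v
  simpa only [f, LinearMap.sum_apply, LinearMap.comp_apply, LinearMap.proj_apply, LinearMap.zero_apply] using h1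

theorem crd_surj (y : Fin k → Fin (2 ^ m + 1) → ZMod 2) (hy : ∀ i, ∑ x, y i x = 0) : ∃ v : V, crd h v = y := by
  refine ⟨∑ i, ∑ z, y i z • w i z, ?_⟩
  funext j x
  rw [map_sum, Finset.sum_apply, Finset.sum_apply, Finset.sum_eq_single j]
  · rw [map_sum, Finset.sum_apply, Finset.sum_apply]
    have h1 : ∀ z, crd h (y j z • w j z) j x = y j z + (if z = x then y j z else 0) := by
      intro z
      rw [map_smul, Pi.smul_apply, Pi.smul_apply, crd_w]
      by_cases hz : z = x
      · simp [hz, mul_add]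
      · simp [hz]
    rw [Finset.sum_congr rfl fun z _ => h1 z, Finset.sum_add_distrib, hy j, zero_add]
    simp
  · intro i _ hij
    rw [map_sum, Finset.sum_apply, Finset.sum_apply]
    refine Finset.sum_eq_zero fun z _ => ?_
    rw [map_smul, Pi.smul_apply, Pi.smul_apply, crd_w]
    simp [hij]
  · intro hj
    exact absurd (Finset.mem_univ j) hj

include h in
theorem w_inj {i j : Fin k} {x y : Fin (2 ^ m + 1)} (hxy : w i x = w j y) : i = j ∧ x = y := by
  have h1 : ∀ l z, crd h (w i x) l z = crd h (w j y) l z := fun l z => by rw [hxy]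
  have hx : ∃ z : Fin (2 ^ m + 1), x ≠ z ∧ y ≠ z := by
    have h3 : 3 ≤ 2 ^ m + 1 := by
      obtain ⟨n, hn⟩ : ∃ n, m = n + 1 := ⟨m - 1, by have := h.m_pos; omega⟩
      rw [hn, pow_succ]
      have := Nat.one_le_two_pow (n := n)
      omega
    have h4 : ({x, y} : Finset (Fin (2 ^ m + 1))).card < (Finset.univ : Finset (Fin (2 ^ m + 1))).card := by
      rw [Finset.card_univ, Fintype.card_fin]
      exact lt_of_le_of_lt Finset.card_le_two (by omega)
    obtain ⟨z, -, hz⟩ := Finset.exists_mem_notMem_of_card_lt_card h4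
    refine ⟨z, ?_, ?_⟩
    · rintro rfl
      simp at hz
    · rintro rfl
      simp at hz
  obtain ⟨z, hz1, hz2⟩ := hx
  have hij : i = j := by
    by_contra hij
    have h2 := h1 i z
    rw [crd_w, crd_w, if_pos rfl, if_neg hz1, if_neg (Ne.symm hij), add_zero] at h2
    exact one_ne h2
  subst hij
  refine ⟨rfl, ?_⟩
  by_contra hne
  have h2 := h1 i x
  rw [crd_w, crd_w, if_pos rfl, if_pos rfl, if_pos rfl, if_neg (Ne.symm hne), one_add_one, add_zero] at h2
  exact one_ne h2.symm

end crd

/-! ### The action -/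

section act

theorem closure_normal : (closure (DD P V)).Normal := by
  refine ⟨fun n hn g => ?_⟩
  have h1 : (closure (DD P V)).map (MulAut.conj g).toMonoidHom ≤ closure (DD P V) := by
    rw [MonoidHom.map_closure, closure_le]
    rintro _ ⟨y, hy, rfl⟩
    exact subset_closure (mem_DD_conj hy g)
  exact h1 ⟨n, hn, rfl⟩

theorem smul_mem_D {v : V} (hv : v ∈ fixS V (closure (DD P V))) (g : P) :
    g • v ∈ fixS V (closure (DD P V)) := inv_fixS closure_normal g v hv

theorem crd_smul {g : P} {σ : Equiv.Perm (Fin k)} {τ : Fin k → Equiv.Perm (Fin (2 ^ m + 1))}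
    (hg : Acts w g σ τ) (v : V) (i : Fin k) (x : Fin (2 ^ m + 1)) :
    crd h (g • v) (σ i) (τ i x) = crd h v i x := by
  have h1 : (LinearMap.proj (τ i x) ∘ₗ LinearMap.proj (σ i) ∘ₗ crd h ∘ₗ (lin g : V →ₗ[ZMod 2] V) :
      V →ₗ[ZMod 2] ZMod 2) = LinearMap.proj x ∘ₗ LinearMap.proj i ∘ₗ crd h := by
    refine ext_of h (fun j y => ?_) fun v hv => ?_
    · simp only [LinearMap.comp_apply, LinearMap.proj_apply, lin_apply]
      rw [hg j y, crd_w, crd_w]
      by_cases hij : j = i
      · subst hij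
        simp
      · have h2 : ¬ σ j = σ i := fun h0 => hij (σ.injective h0)
        rw [if_neg h2, if_neg hij]
    · simp only [LinearMap.comp_apply, LinearMap.proj_apply, lin_apply]
      rw [(crd_eq_zero_iff h).2 hv, (crd_eq_zero_iff h).2 (smul_mem_D hv g)]
      simp
  exact LinearMap.congr_fun h1 v

theorem exists_ne (_hm : 0 < m) (x : Fin (2 ^ m + 1)) : ∃ y, y ≠ x := by
  have h4 : ({x} : Finset (Fin (2 ^ m + 1))).card < (Finset.univ : Finset (Fin (2 ^ m + 1))).card := by
    rw [Finset.card_univ, Fintype.card_fin, Finset.card_singleton]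
    have := Nat.one_le_two_pow (n := m)
    omega
  obtain ⟨z, -, hz⟩ := Finset.exists_mem_notMem_of_card_lt_card h4
  exact ⟨z, fun h0 => hz (Finset.mem_singleton.2 h0)⟩

theorem Acts.of_crd {g : P} {σ : Equiv.Perm (Fin k)} {τ : Fin k → Equiv.Perm (Fin (2 ^ m + 1))}
    (hg : ∀ v i x, crd h (g • v) (σ i) (τ i x) = crd h v i x) : Acts w g σ τ := by
  obtain ⟨σ', τ', h1⟩ := h.perm g
  have h2 : ∀ j y i x, crd h (w (σ' j) (τ' j y)) (σ i) (τ i x) = crd h (w j y) i x := by
    intro j y i x
    rw [← h1 j y]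
    exact hg _ _ _
  have h3 : ∀ j, σ' j = σ j := by
    intro j
    obtain ⟨x, hx⟩ := exists_ne h.m_pos (0 : Fin (2 ^ m + 1))
    have h4 := h2 j 0 j x
    rw [crd_w, crd_w, if_pos rfl, if_neg (Ne.symm hx), add_zero] at h4
    by_contra hne
    rw [if_neg hne] at h4
    exact one_ne h4.symm
  intro i x
  rw [h1 i x, h3 i]
  congr 1
  by_contra hne
  have h4 := h2 i x i x
  rw [crd_w, crd_w, if_pos rfl, if_pos rfl, one_add_one, if_pos (h3 i), if_neg hne, add_zero] at h4
  exact one_ne h4

include h in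
theorem Acts.unique {g : P} {σ σ' : Equiv.Perm (Fin k)} {τ τ' : Fin k → Equiv.Perm (Fin (2 ^ m + 1))}
    (hg : Acts w g σ τ) (hg' : Acts w g σ' τ') : σ = σ' ∧ τ = τ' := by
  have h1 : ∀ i x, σ i = σ' i ∧ τ i x = τ' i x := fun i x => w_inj h ((hg i x).symm.trans (hg' i x))
  exact ⟨Equiv.ext fun i => (h1 i 0).1, funext fun i => Equiv.ext fun x => (h1 i x).2⟩

omit [Module (ZMod 2) V] in
theorem Acts.mul {g g' : P} {σ σ' : Equiv.Perm (Fin k)} {τ τ' : Fin k → Equiv.Perm (Fin (2 ^ m + 1))}
    (hg : Acts w g σ τ) (hg' : Acts w g' σ' τ') : Acts w (g * g') (σ * σ') fun i => τ (σ' i) * τ' i := by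
  intro i x
  rw [mul_smul, hg' i x, hg]
  rfl

omit [Module (ZMod 2) V] in
theorem Acts.inv {g : P} {σ : Equiv.Perm (Fin k)} {τ : Fin k → Equiv.Perm (Fin (2 ^ m + 1))}
    (hg : Acts w g σ τ) : Acts w g⁻¹ σ⁻¹ fun i => (τ (σ⁻¹ i))⁻¹ := by
  intro i x
  rw [inv_smul_eq_iff, hg]
  simp

omit [Module (ZMod 2) V] in
theorem Acts.one : Acts w (1 : P) 1 1 := fun _ _ => one_smul _ _

include h in
theorem Acts.eq {g g' : P} {σ : Equiv.Perm (Fin k)} {τ : Fin k → Equiv.Perm (Fin (2 ^ m + 1))}
    (hg : Acts w g σ τ) (hg' : Acts w g' σ τ) : g = g' := by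
  have h1 : g'⁻¹ * g = 1 := by
    refine h.faithful _ fun i x => ?_
    rw [mul_smul, hg i x, ← hg' i x, inv_smul_smul]
  exact (inv_mul_eq_one.mp h1).symm

theorem fix_D {g : P} (hg : g ∈ closure (DD P V)) {v : V} (hv : v ∈ fixS V (closure (DD P V))) : g • v = v :=
  hv g hg

include h in
/-- all permutations of the points of the summands are induced by products of transvections -/
theorem exists_lift (τ : Fin k → Equiv.Perm (Fin (2 ^ m + 1))) : ∃ g ∈ closure (DD P V), Acts w g 1 τ := by
  let K : Subgroup (Fin k → Equiv.Perm (Fin (2 ^ m + 1))) :=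
    { carrier := {τ | ∃ g ∈ closure (DD P V), Acts w g 1 τ}
      one_mem' := ⟨1, one_mem _, Acts.one⟩
      mul_mem' := by
        rintro a b ⟨g, hg, h1⟩ ⟨g', hg', h2⟩
        exact ⟨g * g', mul_mem hg hg', h1.mul h2⟩
      inv_mem' := by
        rintro a ⟨g, hg, h1⟩
        exact ⟨g⁻¹, inv_mem hg, h1.inv⟩ }
  have h1 : ∀ i (s : Equiv.Perm (Fin (2 ^ m + 1))), Pi.mulSingle i s ∈ K := by
    intro i s
    have h2 : (⊤ : Subgroup (Equiv.Perm (Fin (2 ^ m + 1)))) ≤
        K.comap (MonoidHom.mulSingle (fun _ : Fin k => Equiv.Perm (Fin (2 ^ m + 1))) i) := by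
      rw [← Equiv.Perm.closure_isSwap, closure_le]
      rintro _ ⟨x, y, hxy, rfl⟩
      obtain ⟨d, χ, hd, h3⟩ := h.swap i x y hxy
      refine ⟨d, subset_closure hd.mem, fun j z => ?_⟩
      rw [(h3 j z).1]
      congr 1
      by_cases hj : j = i
      · subst hj
        simp
      · simp [hj]
    exact h2 (mem_top s)
  exact Subgroup.pi_mem_of_mulSingle_mem _ fun i => h1 i (τ i)

end act

end Cfsg.Agent.Omega.FFBr.Two
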