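import Cfsg.Agent.Omega.FFBr.TwoSym

/-!
# The FF theorem for minimal parabolics, `q = 2`: the summands of dimension 2

`absNat` : `SymMod X V' T k 1 w` gives `AbsNat (ZMod 2) T V k`.
-/

set_option autoImplicit false

namespace Cfsg.Agent.Omega.FFBr.Two

open Subgroup Cfsg.Agent.Omega.Transv Cfsg.Agent.Lib.SL2Mat
open Cfsg.Agent.ClassTwoFusion.Quad (cv mem_cv)
open Cfsg.Agent.Omega.NatPair (ap ap_zero' ap_one' ext2)

/-! ### The three nonzero vectors of `F₂²` -/

/-- the vectors -/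
def pt (x : Fin (2 ^ 1 + 1)) : Fin 2 → ZMod 2 := ![1 + (if x = 1 then 1 else 0), 1 + (if x = 0 then 1 else 0)]

theorem pt_ne (x : Fin (2 ^ 1 + 1)) : pt x ≠ 0 := by revert x; decide

theorem pt_inj {x y : Fin (2 ^ 1 + 1)} (h : pt x = pt y) : x = y := by revert x y; decide

theorem exists_pt (u : Fin 2 → ZMod 2) (h : u ≠ 0) : ∃ x, pt x = u := by revert u; decide

theorem ap_ne {A : Matrix.SpecialLinearGroup (Fin 2) (ZMod 2)} {u : Fin 2 → ZMod 2} (h : u ≠ 0) : ap A u ≠ 0 := by
  intro h0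
  apply h
  have h1 := Cfsg.Agent.Omega.NatPair.ap_inv_ap A u
  rw [h0] at h1
  rw [← h1]
  apply ext2
  · rw [ap_zero']; simp
  · rw [ap_one']; simp

theorem ap_injective {A : Matrix.SpecialLinearGroup (Fin 2) (ZMod 2)} {u v : Fin 2 → ZMod 2} (h : ap A u = ap A v) :
    u = v := by
  have h1 := Cfsg.Agent.Omega.NatPair.ap_inv_ap A u
  rw [h, Cfsg.Agent.Omega.NatPair.ap_inv_ap] at h1
  exact h1.symm

theorem exists_perm (A : Matrix.SpecialLinearGroup (Fin 2) (ZMod 2)) :
    ∃ τ : Equiv.Perm (Fin (2 ^ 1 + 1)), ∀ x, ap A (pt x) = pt (τ x) := by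
  choose f hf using fun x => exists_pt (ap A (pt x)) (ap_ne (pt_ne x))
  have hinj : Function.Injective f := by
    intro x y hxy
    have h1 := hf x
    rw [hxy, hf y] at h1
    exact (pt_inj (ap_injective h1)).symm
  exact ⟨Equiv.ofBijective f (Finite.injective_iff_bijective.1 hinj), fun x => (hf x).symm⟩

theorem exists_mat (τ : Equiv.Perm (Fin (2 ^ 1 + 1))) :
    ∃ A : Matrix.SpecialLinearGroup (Fin 2) (ZMod 2), ∀ x, ap A (pt x) = pt (τ x) := by
  have h1 : ∀ τ : Equiv.Perm (Fin (2 ^ 1 + 1)), pt (τ 0) 0 * pt (τ 1) 1 - pt (τ 1) 0 * pt (τ 0) 1 = 1 := by decide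
  have h2 : ∀ (τ : Equiv.Perm (Fin (2 ^ 1 + 1))) (x : Fin (2 ^ 1 + 1)),
      pt (τ 0) 0 * pt x 0 + pt (τ 1) 0 * pt x 1 = pt (τ x) 0 ∧
        pt (τ 0) 1 * pt x 0 + pt (τ 1) 1 * pt x 1 = pt (τ x) 1 := by decide
  refine ⟨mk (pt (τ 0) 0) (pt (τ 1) 0) (pt (τ 0) 1) (pt (τ 1) 1) (h1 τ), fun x => ?_⟩
  apply ext2
  · rw [ap_zero', mk_00, mk_01]
    exact (h2 τ x).1
  · rw [ap_one', mk_10, mk_11]
    exact (h2 τ x).2

theorem ap_up_zero_pt (x : Fin (2 ^ 1 + 1)) : ap (up (0 : ZMod 2)) (pt x) = pt x := by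
  apply ext2
  · rw [ap_zero', up_00, up_01, one_mul, zero_mul, add_zero]
  · rw [ap_one', up_10, up_11, one_mul, zero_mul, zero_add]

theorem ap_up_one_pt (x : Fin (2 ^ 1 + 1)) : ap (up (1 : ZMod 2)) (pt x) = pt (Equiv.swap 1 2 x) := by
  have h1 : ∀ x : Fin (2 ^ 1 + 1), pt x 0 + pt x 1 = pt (Equiv.swap 1 2 x) 0 ∧
    pt x 1 = pt (Equiv.swap 1 2 x) 1 := by decide
  apply ext2
  · rw [ap_zero', up_00, up_01, one_mul, one_mul]
    exact (h1 x).1
  · rw [ap_one', up_10, up_11, one_mul, zero_mul, zero_add]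
    exact (h1 x).2

/-- the permutation of `up b` -/
def pu (b : ZMod 2) : Equiv.Perm (Fin (2 ^ 1 + 1)) := if b = 0 then 1 else Equiv.swap 1 2

theorem ap_up_pt (b : ZMod 2) (x : Fin (2 ^ 1 + 1)) : ap (up b) (pt x) = pt (pu b x) := by
  rcases zmod_cases b with rfl | rfl
  · rw [ap_up_zero_pt]; rfl
  · rw [ap_up_one_pt, pu, if_neg one_ne]

theorem eq_pu (τ : Equiv.Perm (Fin (2 ^ 1 + 1))) (h0 : τ 0 = 0) : ∃ b : ZMod 2, τ = pu b := by
  revert τ
  decide

theorem pu_zero (b : ZMod 2) : pu b 0 = 0 := by revert b; decide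

theorem pu_sq (b : ZMod 2) : pu b * pu b = 1 := by revert b; decide

theorem pu_add (b c : ZMod 2) : pu b * pu c = pu (b + c) := by revert b c; decide

variable {X : Type*} [Group X] {V : Type*} [Group V] [MulDistribMulAction X V]
  {V' : Type*} [AddCommGroup V'] [Module (ZMod 2) V'] [DistribMulAction X V']
  {T : Sylow 2 X} {k : ℕ} {w : Fin k → Fin (2 ^ 1 + 1) → V'} {ι : V → V'}

/-- the coordinates in `F₂²` -/
noncomputable def ee (h : SymMod X V' T k 1 w) (v : V') (j : Fin k) : Fin 2 → ZMod 2 := ![crd h v j 1, crd h v j 0]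

theorem ee_zero' (h : SymMod X V' T k 1 w) (v : V') (j : Fin k) : ee h v j 0 = crd h v j 1 := rfl

theorem ee_one' (h : SymMod X V' T k 1 w) (v : V') (j : Fin k) : ee h v j 1 = crd h v j 0 := rfl

theorem ee_add (h : SymMod X V' T k 1 w) (v u : V') : ee h (v + u) = ee h v + ee h u := by
  funext j
  apply ext2
  · rw [ee_zero', map_add]; rfl
  · rw [ee_one', map_add]; rfl

theorem ee_w (h : SymMod X V' T k 1 w) (j l : Fin k) (y : Fin (2 ^ 1 + 1)) :
    ee h (w j y) l = if j = l then pt y else 0 := by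
  apply ext2
  · rw [ee_zero', crd_w]
    by_cases hjl : j = l
    · rw [if_pos hjl, if_pos hjl]; rfl
    · rw [if_neg hjl, if_neg hjl]; rfl
  · rw [ee_one', crd_w]
    by_cases hjl : j = l
    · rw [if_pos hjl, if_pos hjl]; rfl
    · rw [if_neg hjl, if_neg hjl]; rfl

theorem ee_eq_zero_iff (h : SymMod X V' T k 1 w) {v : V'} {j : Fin k} : ee h v j = 0 ↔ crd h v j = 0 := by
  constructor
  · intro h1
    have h2 : crd h v j 1 = 0 := by rw [← ee_zero', h1]; rfl
    have h3 : crd h v j 0 = 0 := by rw [← ee_one', h1]; rfl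
    have h4 := crd_even h v j
    have h5 : ∑ x : Fin (2 ^ 1 + 1), crd h v j x = crd h v j 0 + crd h v j 1 + crd h v j 2 :=
      Fin.sum_univ_three (crd h v j)
    rw [h5, h2, h3, zero_add, zero_add] at h4
    funext x
    have h6 : ∀ x : Fin (2 ^ 1 + 1), x = 0 ∨ x = 1 ∨ x = 2 := by decide
    rcases h6 x with rfl | rfl | rfl
    · exact h3
    · exact h2
    · exact h4
  · intro h1
    apply ext2
    · rw [ee_zero', h1]; rfl
    · rw [ee_one', h1]; rfl

theorem ap_add (A : Matrix.SpecialLinearGroup (Fin 2) (ZMod 2)) (x y : Fin 2 → ZMod 2) :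
    ap A (x + y) = ap A x + ap A y := by
  apply ext2
  · rw [Pi.add_apply, ap_zero', ap_zero', ap_zero', Pi.add_apply, Pi.add_apply]; ring
  · rw [Pi.add_apply, ap_one', ap_one', ap_one', Pi.add_apply, Pi.add_apply]; ring

/-- the action on the coordinates from the action on the points -/
theorem ee_smul (h : SymMod X V' T k 1 w) {g : X} {τ : Fin k → Equiv.Perm (Fin (2 ^ 1 + 1))} (hg : Acts w g 1 τ)
    {A : Fin k → Matrix.SpecialLinearGroup (Fin 2) (ZMod 2)} (hA : ∀ j x, ap (A j) (pt x) = pt (τ j x)) (v : V')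
    (j : Fin k) : ee h (g • v) j = ap (A j) (ee h v j) := by
  let f : V' →ₗ[ZMod 2] (Fin 2 → ZMod 2) :=
    { toFun := fun v => ee h (g • v) j
      map_add' := fun v u => by rw [smul_add, ee_add]; rfl
      map_smul' := fun c v => by
        rcases zmod_cases c with rfl | rfl
        · rw [zero_smul, smul_zero, RingHom.id_apply, zero_smul]
          have h1 := ee_add h (0 : V') 0
          rw [add_zero] at h1
          exact congrFun (left_eq_add.1 h1) j
        · rw [one_smul, RingHom.id_apply, one_smul] }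
  let f' : V' →ₗ[ZMod 2] (Fin 2 → ZMod 2) :=
    { toFun := fun v => ap (A j) (ee h v j)
      map_add' := fun v u => by
        have h1 : ee h (v + u) j = ee h v j + ee h u j := by rw [ee_add]; rfl
        rw [h1, ap_add]
      map_smul' := fun c v => by
        rcases zmod_cases c with rfl | rfl
        · rw [zero_smul, RingHom.id_apply, zero_smul]
          have h1 : ee h (0 : V') j = 0 := (ee_eq_zero_iff h).2 (by rw [map_zero]; rfl)
          rw [h1]
          have h2 := ap_add (A j) 0 0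
          rw [add_zero] at h2
          exact left_eq_add.1 h2
        · rw [one_smul, RingHom.id_apply, one_smul] }
  have h1 : f = f' := by
    refine ext_of h (fun l y => ?_) fun v hv => ?_
    · change ee h (g • w l y) j = ap (A j) (ee h (w l y) j)
      rw [hg l y, ee_w, ee_w]
      by_cases hlj : l = j
      · subst hlj
        rw [if_pos rfl, Equiv.Perm.coe_one, id_eq, if_pos rfl, hA]
      · rw [if_neg hlj, Equiv.Perm.coe_one, id_eq, if_neg hlj]
        have h2 := ap_add (A j) 0 0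
        rw [add_zero] at h2
        exact (left_eq_add.1 h2).symm
    · change ee h (g • v) j = ap (A j) (ee h v j)
      have h2 : ee h (g • v) j = 0 :=
        (ee_eq_zero_iff h).2 (by rw [(crd_eq_zero_iff h).2 (smul_mem_D hv g)]; rfl)
      have h3 : ee h v j = 0 := (ee_eq_zero_iff h).2 (by rw [(crd_eq_zero_iff h).2 hv]; rfl)
      rw [h2, h3]
      have h2 := ap_add (A j) 0 0
      rw [add_zero] at h2
      exact (left_eq_add.1 h2).symm
  exact LinearMap.congr_fun h1 v

/-- the action on the points from the action on the coordinates -/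
theorem acts_of_ee (h : SymMod X V' T k 1 w) {g : X}
    {A : Fin k → Matrix.SpecialLinearGroup (Fin 2) (ZMod 2)} (hA : ∀ v j, ee h (g • v) j = ap (A j) (ee h v j)) :
    ∃ τ : Fin k → Equiv.Perm (Fin (2 ^ 1 + 1)), Acts w g 1 τ ∧ ∀ j x, ap (A j) (pt x) = pt (τ j x) := by
  choose τ hτ using fun j => exists_perm (A j)
  obtain ⟨σ', τ', hg⟩ := h.perm g
  refine ⟨τ, fun j x => ?_, hτ⟩
  have h1 := hA (w j x) j
  rw [hg j x, ee_w, ee_w, if_pos rfl, hτ] at h1
  have h2 : σ' j = j := by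
    by_contra hne
    rw [if_neg hne] at h1
    exact pt_ne _ h1.symm
  rw [if_pos h2] at h1
  rw [hg j x, h2, pt_inj h1]
  rfl

section

variable [Finite X] (h : SymMod X V' T k 1 w) (i : Tr X ι)

include h in
/-- the elements which fix the points `0` and the summands lie in `T` -/
theorem mem_T_of {g : X} {b : Fin k → ZMod 2} (hg : Acts w g 1 fun j => pu (b j)) : g ∈ T := by
  let E : Subgroup X :=
    { carrier := {g | ∃ b : Fin k → ZMod 2, Acts w g 1 fun j => pu (b j)}
      one_mem' := ⟨0, Acts.one⟩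
      mul_mem' := by
        rintro g g' ⟨b, hb⟩ ⟨b', hb'⟩
        refine ⟨b + b', ?_⟩
        have h1 := hb.mul hb'
        intro j x
        rw [h1 j x]
        change w j ((pu (b j) * pu (b' j)) x) = w j (pu (b j + b' j) x)
        rw [pu_add]
      inv_mem' := by
        rintro g ⟨b, hb⟩
        refine ⟨b, ?_⟩
        have h1 := hb.mul hb
        have h2 : g * g = 1 := by
          refine Acts.eq h (σ := 1) (τ := 1) ?_ Acts.one
          intro j x
          rw [h1 j x]
          change w j ((pu (b j) * pu (b j)) x) = w j x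
          rw [pu_sq]
          rfl
        rw [inv_eq_of_mul_eq_one_left h2]
        exact hb }
  have hE : IsPGroup 2 E := by
    rintro ⟨g, b, hb⟩
    refine ⟨1, ?_⟩
    rw [pow_one, pow_two]
    apply Subtype.ext
    refine Acts.eq h (σ := 1) (τ := 1) ?_ Acts.one
    have h1 := hb.mul hb
    intro j x
    change (g * g) • w j x = w j x
    rw [h1 j x]
    change w j ((pu (b j) * pu (b j)) x) = w j x
    rw [pu_sq]
    rfl
  have hn : (T : Subgroup X) ≤ normalizer (E : Set X) := by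
    have key : ∀ t ∈ T, ∀ g ∈ E, t * g * t⁻¹ ∈ E := by
      rintro t ht g ⟨b, hb⟩
      obtain ⟨σ, τ, h1'⟩ := h.perm t
      have h1 : Acts w t σ τ := h1'
      have h2 := (h1.mul hb).mul h1.inv
      have h3 : σ * 1 * σ⁻¹ = 1 := by group
      rw [h3] at h2
      have h4 : ∀ j, ∃ c, (τ ((1 : Equiv.Perm (Fin k)) (σ⁻¹ j)) * pu (b (σ⁻¹ j))) * (τ (σ⁻¹ j))⁻¹ = pu c := by
        intro j
        apply eq_pu
        have h5 : (τ (σ⁻¹ j))⁻¹ 0 = 0 := by
          rw [Equiv.Perm.inv_eq_iff_eq, fix_zero h ht h1]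
        rw [Equiv.Perm.mul_apply, h5, Equiv.Perm.mul_apply, pu_zero, Equiv.Perm.coe_one, id_eq, fix_zero h ht h1]
      choose c hc using h4
      refine ⟨c, fun j x => ?_⟩
      rw [h2 j x]
      exact congrArg (fun s : Equiv.Perm (Fin (2 ^ 1 + 1)) => w j (s x)) (hc j)
    intro t ht
    rw [mem_normalizer_iff]
    intro g
    refine ⟨fun hg => key t ht g hg, fun hg => ?_⟩
    have h1 := key t⁻¹ (inv_mem ht) _ hg
    have h2 : t⁻¹ * (t * g * t⁻¹) * t⁻¹⁻¹ = g := by group
    rwa [h2] at h1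
  have : Fact (Nat.Prime 2) := ⟨Nat.prime_two⟩
  have h1 : IsPGroup 2 ((T : Subgroup X) ⊔ E : Subgroup X) := IsPGroup.to_sup_of_normal_right' T.isPGroup' hE hn
  have h2 := T.is_maximal' h1 le_sup_left
  exact (le_sup_right.trans h2.le) (show g ∈ E from ⟨b, hg⟩)

include h i in
theorem aacts {g : X} (hg : g ∈ closure (DD X V')) {τ : Fin k → Equiv.Perm (Fin (2 ^ 1 + 1))} (hτ : Acts w g 1 τ)
    {A : Fin k → Matrix.SpecialLinearGroup (Fin 2) (ZMod 2)} (hA : ∀ j x, ap (A j) (pt x) = pt (τ j x)) :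
    AActs (fun v => ee h (ι v)) g A := by
  refine ⟨fun v j => ?_, fun d hd => fix_odd h i hg hd⟩
  change ee h (ι (g • v)) j = _
  rw [i.act]
  exact ee_smul h hτ hA _ _

/-- the structure for `S₃ = SL₂(2)` -/
noncomputable def absNat [Finite V] : AbsNat (ZMod 2) (T : Subgroup X) V k where
  e v := ee h (ι v)
  mul v u := by rw [i.mul, ee_add]
  surj y := by
    obtain ⟨v', hv⟩ := crd_surj h (fun j => ![y j 1, y j 0, y j 0 + y j 1]) fun j => by
      rw [show ∑ x : Fin (2 ^ 1 + 1), (![y j 1, y j 0, y j 0 + y j 1] : Fin (2 ^ 1 + 1) → ZMod 2) x =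
        y j 1 + y j 0 + (y j 0 + y j 1) from Fin.sum_univ_three _, add_comm (y j 1) (y j 0)]
      exact add_self _
    obtain ⟨v, rfl⟩ := i.surj v'
    refine ⟨v, ?_⟩
    funext j
    apply ext2
    · rw [ee_zero', hv]; rfl
    · rw [ee_one', hv]; rfl
  ker v := by
    rw [mem_odd_iff h i, ← crd_eq_zero_iff h]
    constructor
    · intro h1
      funext j
      exact (ee_eq_zero_iff h).1 (congrFun h1 j)
    · intro h1
      funext j
      exact (ee_eq_zero_iff h).2 (by rw [h1]; rfl)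
  lift A := by
    choose τ hτ using fun j => exists_perm (A j)
    obtain ⟨g, hg, h1⟩ := exists_lift h τ
    exact ⟨g, aacts h i hg h1 hτ⟩
  norm g x A hA := by
    obtain ⟨τ, h1, h2⟩ := acts_of_ee h (g := x) (A := A) fun v' j => by
      obtain ⟨v, rfl⟩ := i.surj v'
      rw [← i.act]
      exact hA v j
    obtain ⟨σ, τ', h3'⟩ := h.perm g
    have h3 : Acts w g σ τ' := h3'
    have h4 := (h3.mul h1).mul h3.inv
    have h5 : σ * 1 * σ⁻¹ = 1 := by group
    rw [h5] at h4
    choose B hB using fun j => exists_mat ((τ' ((1 : Equiv.Perm (Fin k)) (σ⁻¹ j)) * τ (σ⁻¹ j)) * (τ' (σ⁻¹ j))⁻¹)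
    refine ⟨B, fun v j => ?_⟩
    rw [i.act]
    exact ee_smul h h4 hB _ _
  perm g := by
    obtain ⟨σ, τ, h1⟩ := h.perm g
    refine ⟨σ, fun v j => ?_⟩
    rw [ee_eq_zero_iff, ee_eq_zero_iff, i.act]
    have h2 := crd_smul h h1 (ι v) j
    constructor
    · intro h3
      funext x
      rw [← h2, h3]
      rfl
    · intro h3
      funext x
      obtain ⟨y, rfl⟩ := (τ j).surjective x
      rw [h2, h3]
      rfl
  trans j l := by
    obtain ⟨t, ht, h1⟩ := h.trans j l
    obtain ⟨σ, τ, h2⟩ := h.perm t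
    refine ⟨t, ht, fun v => ?_⟩
    have hσ : σ j = l := by
      rw [h2 j 0] at h1
      exact (w_inj h h1).1
    rw [ee_eq_zero_iff, ee_eq_zero_iff, i.act, ← hσ]
    have h3 := crd_smul h h2 (ι v) j
    constructor
    · intro h4
      funext x
      rw [← h3, h4]
      rfl
    · intro h4
      funext x
      obtain ⟨y, rfl⟩ := (τ j).surjective x
      rw [h3, h4]
      rfl
  line t ht := by
    obtain ⟨σ, τ, h2⟩ := h.perm t
    refine ⟨σ, fun v j => ?_⟩
    rw [ee_one', ee_one', i.act]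
    have h3 := crd_smul h h2 (ι v) j 0
    rw [fix_zero h ht h2] at h3
    rw [h3]
  unip b := by
    obtain ⟨g, hg, h1⟩ := exists_lift h fun j => pu (b j)
    exact ⟨g, mem_T_of h h1, aacts h i hg h1 fun j x => ap_up_pt (b j) x⟩
  gen K hTK hK := by
    rw [eq_top_iff, ← h.gen]
    refine sup_le ?_ hTK
    rw [closure_le]
    rintro d ⟨a, χ, hd⟩
    obtain ⟨j, x, y, hxy, ha, h1⟩ := h.all d a χ hd
    have h2 : Acts w d 1 (Function.update 1 j (Equiv.swap x y)) := by
      intro l z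
      rw [(h1 l z).1]
      congr 1
      by_cases hl : l = j
      · subst hl
        simp
      · simp [hl]
    choose A hA using fun l => exists_mat ((Function.update (1 : Fin k → Equiv.Perm (Fin (2 ^ 1 + 1))) j
      (Equiv.swap x y)) l)
    exact hK d A (aacts h i (subset_closure hd.mem) h2 hA)
  off A hAT hA := by
    classical
    have key : ∀ a ∈ A, ∃ b : Fin k → ZMod 2, Acts w a 1 (fun j => pu (b j)) ∧ a ∈ closure (DD X V') ∧
        ∀ j, b j ≠ 0 → ∃ c ∈ A, Acts w c 1 (Pi.mulSingle j (pu 1)) := by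
      intro a ha
      obtain ⟨τ, h1⟩ := offData h i hAT hA.comm hA.sq hA.le a ha
      choose b hb using fun j => eq_pu (τ j) (h1.zero j)
      have h2 : τ = fun j => pu (b j) := funext hb
      refine ⟨b, h2 ▸ h1.acts, mem_closure_of_acts h h1.acts, fun j hj => ?_⟩
      have h3 : τ j = Equiv.swap 1 2 := by rw [hb j, pu, if_neg hj]
      have h4 : τ j 1 = 2 := by rw [h3, Equiv.swap_apply_left]
      obtain ⟨c, hc, h5⟩ := h1.swap j 1 (by rw [h4]; decide)
      refine ⟨c, hc, ?_⟩
      rw [h4] at h5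
      exact h5
    refine ⟨{j | ∃ a ∈ A, Acts w a 1 (Pi.mulSingle j (pu 1))}, fun a ha => ?_, fun b hb => ?_⟩
    · obtain ⟨b, h1, h2, h3⟩ := key a ha
      refine ⟨b, fun j hj => ?_, aacts h i h2 h1 fun j x => ap_up_pt (b j) x⟩
      by_contra hne
      exact hj (h3 j hne)
    · let K : Subgroup (Fin k → Equiv.Perm (Fin (2 ^ 1 + 1))) :=
        { carrier := {τ | ∃ g ∈ A, Acts w g 1 τ}
          one_mem' := ⟨1, one_mem _, Acts.one⟩
          mul_mem' := by
            rintro a b ⟨g, hg, h1⟩ ⟨g', hg', h2⟩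
            exact ⟨g * g', mul_mem hg hg', h1.mul h2⟩
          inv_mem' := by
            rintro a ⟨g, hg, h1⟩
            exact ⟨g⁻¹, inv_mem hg, h1.inv⟩ }
      have h1 : (fun j => pu (b j)) ∈ K := by
        refine Subgroup.pi_mem_of_mulSingle_mem _ fun j => ?_
        rcases zmod_cases (b j) with h0 | h0
        · rw [h0]
          have : pu 0 = 1 := rfl
          rw [this, Pi.mulSingle_one]
          exact one_mem K
        · rw [h0]
          by_contra hne
          have h3 := hb j fun hj => hne hj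
          rw [h0] at h3
          exact one_ne h3
      obtain ⟨g, hg, h2⟩ := h1
      obtain ⟨b', -, h3, -⟩ := key g hg
      exact ⟨g, hg, aacts h i h3 h2 fun j x => ap_up_pt (b j) x⟩

end

end Cfsg.Agent.Omega.FFBr.Two
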