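import Cfsg.Agent.Omega.FFBr.TwoPerm
import Cfsg.Agent.Omega.FFBr.Def

/-!
# The FF theorem for minimal parabolics, `q = 2`: offenders

`X` acts on the elementary abelian 2-group `V` (multiplicative), `ι : V → V'` is an equivariant isomorphism with an
additive module, `SymMod X V' T k m w`.

* `card_le` : no over-offender in `T`, `noOver` : `ANoOver X V`;
* `OffData` : what an offender `A ≤ T` does on the points: it fixes the summands, and with `a` it contains the
  transpositions of the orbits of `a`; `offData`.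
-/

set_option autoImplicit false

namespace Cfsg.Agent.Omega.FFBr.Two

open Subgroup Cfsg.Agent.Omega.Transv
open Cfsg.Agent.ClassTwoFusion.Quad (cv mem_cv)

variable {X : Type*} [Group X] {V : Type*} [Group V] [MulDistribMulAction X V]
  {V' : Type*} [AddCommGroup V'] [Module (ZMod 2) V'] [DistribMulAction X V']
  {T : Sylow 2 X} {k m : ℕ} {w : Fin k → Fin (2 ^ m + 1) → V'}

/-- equivariant isomorphism with an additive module -/
structure Tr (X : Type*) [Group X] {V : Type*} [Group V] [MulDistribMulAction X V]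
    {V' : Type*} [AddCommGroup V'] [DistribMulAction X V'] (ι : V → V') : Prop where
  inj : Function.Injective ι
  surj : Function.Surjective ι
  mul : ∀ v w, ι (v * w) = ι v + ι w
  act : ∀ (x : X) v, ι (x • v) = x • ι v

variable {ι : V → V'}

omit [Module (ZMod 2) V'] in
theorem Tr.one (i : Tr X ι) : ι 1 = 0 := by
  have h1 := i.mul 1 1
  rw [mul_one] at h1
  exact left_eq_add.1 h1

/-- the vectors of the span of the points -/
def spV (i : Tr X ι) (w : Fin k → Fin (2 ^ m + 1) → V') : Subgroup V where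
  carrier := {v | ι v ∈ spn w}
  one_mem' := by
    change ι 1 ∈ spn w
    rw [i.one]
    exact Submodule.zero_mem _
  mul_mem' := fun {v u} hv hu => by
    change ι (v * u) ∈ spn w
    rw [i.mul]
    exact Submodule.add_mem _ hv hu
  inv_mem' := fun {v} hv => by
    have h1 := i.mul v⁻¹ v
    rw [inv_mul_cancel, i.one] at h1
    change ι v⁻¹ ∈ spn w
    rw [eq_neg_of_add_eq_zero_left h1.symm]
    exact Submodule.neg_mem _ hv

theorem mem_spV (i : Tr X ι) {v : V} : v ∈ spV i w ↔ ι v ∈ spn w := Iff.rfl

variable (h : SymMod X V' T k m w) (i : Tr X ι)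

theorem card_spV : Nat.card (spV i w) = Nat.card (spn w) := by
  refine Nat.card_congr (Equiv.ofBijective (fun v => ⟨ι v, v.2⟩) ⟨fun v u hvu => ?_, fun v => ?_⟩)
  · exact Subtype.ext (i.inj (congrArg Subtype.val hvu))
  · obtain ⟨u, hu⟩ := i.surj v
    exact ⟨⟨u, by rw [mem_spV, hu]; exact v.2⟩, Subtype.ext hu⟩

theorem card_cv_spV (A : Subgroup X) :
    Nat.card (cv V (A : Set X) ⊓ spV i w : Subgroup V) =
      Nat.card {v : spn w // ∀ a : A, (a : X) • (v : V') = v} := by
  refine Nat.card_congr (Equiv.ofBijective (fun v => ⟨⟨ι v, v.2.2⟩, fun a => ?_⟩) ⟨fun v u hvu => ?_, fun v => ?_⟩)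
  · change (a : X) • ι v = ι v
    rw [← i.act, v.2.1 a a.2]
  · exact Subtype.ext (i.inj (congrArg (fun z => ((z : {v : spn w // ∀ a : A, (a : X) • (v : V') = v}).1 : V')) hvu))
  · obtain ⟨u, hu⟩ := i.surj v.1
    refine ⟨⟨u, fun a ha => i.inj ?_, show ι u ∈ spn w by rw [hu]; exact v.1.2⟩, Subtype.ext (Subtype.ext hu)⟩
    rw [i.act, hu]
    exact v.2 ⟨a, ha⟩

section T

variable [Finite X] {A : Subgroup X} (hAT : A ≤ T) (hc : ∀ a ∈ A, ∀ b ∈ A, a * b = b * a)

omit [Finite X] in
theorem relIndex_mul (B W : Subgroup V) : B.relIndex W * Nat.card (B ⊓ W : Subgroup V) = Nat.card W := by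
  have h1 := Subgroup.card_mul_index (B.subgroupOf W)
  rw [mul_comm] at h1
  have h2 : Nat.card (B.subgroupOf W) = Nat.card (B ⊓ W : Subgroup V) := by
    rw [← inf_subgroupOf_right]
    exact Nat.card_congr (subgroupOfEquivOfLe inf_le_right).toEquiv
  rw [h2] at h1
  exact h1

include h i hAT hc in
theorem card_le [Finite V] : Nat.card A ≤ (cv V (A : Set X)).relIndex (spV i w) := by
  let _ : CommGroup A := { (inferInstance : Group A) with mul_comm := fun a b => Subtype.ext (hc a a.2 b b.2) }
  have h1 := card_le_span h A.subtype A.subtype_injective (fun a => hAT a.2)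
  have h2 : Nat.card {v : spn w // ∀ a : A, A.subtype a • (v : V') = v} =
      Nat.card (cv V (A : Set X) ⊓ spV i w : Subgroup V) := (card_cv_spV i A).symm
  rw [h2, ← card_spV i, ← relIndex_mul (cv V (A : Set X)) (spV i w)] at h1
  exact Nat.le_of_mul_le_mul_right h1 Nat.card_pos

include h i hAT hc in
theorem card_le_index [Finite V] : Nat.card A ≤ (cv V (A : Set X)).index := by
  refine (card_le h i hAT hc).trans ?_
  rw [← Subgroup.relIndex_top_right]
  exact Subgroup.relIndex_le_of_le_right le_top Subgroup.index_ne_zero_of_finite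

include h i in
/-- no over-offender -/
theorem noOver [Finite V] : ANoOver X V := by
  intro A hc hs
  have : Fact (Nat.Prime 2) := ⟨Nat.prime_two⟩
  have h2 : IsPGroup 2 A := fun a => ⟨1, by
    rw [pow_one, pow_two]
    exact Subtype.ext (hs a a.2)⟩
  obtain ⟨Q, hQ⟩ := h2.exists_le_sylow
  obtain ⟨g, hg⟩ := MulAction.exists_smul_eq X Q T
  let B : Subgroup X := A.map (MulAut.conj g).toMonoidHom
  have hBT : B ≤ T := by
    rintro _ ⟨a, ha, rfl⟩
    rw [← hg]
    exact ⟨a, hQ ha, rfl⟩
  have hBc : ∀ a ∈ B, ∀ b ∈ B, a * b = b * a := by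
    rintro _ ⟨a, ha, rfl⟩ _ ⟨b, hb, rfl⟩
    rw [← map_mul, ← map_mul, hc a ha b hb]
  have h3 := card_le_index h i hBT hBc
  have h4 : Nat.card B = Nat.card A := Subgroup.card_map_of_injective (MulAut.conj g).injective
  have h5 : cv V (B : Set X) = (cv V (A : Set X)).map (MulDistribMulAction.toMulEquiv V g).toMonoidHom := by
    ext v
    constructor
    · intro hv
      refine ⟨g⁻¹ • v, fun a ha => ?_, smul_inv_smul g v⟩
      have h6 := hv _ ⟨a, ha, rfl⟩
      change (g * a * g⁻¹) • v = v at h6
      rw [mul_smul, mul_smul, ← eq_inv_smul_iff] at h6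
      exact h6
    · rintro ⟨u, hu, rfl⟩
      rintro _ ⟨a, ha, rfl⟩
      change (g * a * g⁻¹) • g • u = g • u
      rw [mul_smul, mul_smul, inv_smul_smul, hu a ha]
  have h6 : (cv V (B : Set X)).index = (cv V (A : Set X)).index := by
    rw [h5]
    exact Subgroup.index_map_of_bijective (MulDistribMulAction.toMulEquiv V g).bijective _
  rw [← h4, ← h6]
  exact h3

/-- what an offender does on the points -/
structure OffData (w : Fin k → Fin (2 ^ m + 1) → V') (A : Subgroup X) (a : X)
    (τ : Fin k → Equiv.Perm (Fin (2 ^ m + 1))) : Prop where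
  acts : Acts w a 1 τ
  zero : ∀ j, τ j 0 = 0
  sq : ∀ j x, τ j (τ j x) = x
  swap : ∀ j x, τ j x ≠ x → ∃ b ∈ A, Acts w b 1 (Function.update 1 j (Equiv.swap x (τ j x)))

include h i hAT hc in
theorem offData [Finite V] (hs : ∀ a ∈ A, a * a = 1) (hoff : (cv V (A : Set X)).index ≤ Nat.card A) (a : X)
    (ha : a ∈ A) : ∃ τ, OffData w A a τ := by
  classical
  let _ : CommGroup A := { (inferInstance : Group A) with mul_comm := fun a b => Subtype.ext (hc a a.2 b b.2) }
  have h1 : Nat.card (spn w) ≤ Nat.card A * Nat.card {v : spn w // ∀ a : A, A.subtype a • (v : V') = v} := by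
    have h2 : Nat.card {v : spn w // ∀ a : A, A.subtype a • (v : V') = v} =
        Nat.card (cv V (A : Set X) ⊓ spV i w : Subgroup V) := (card_cv_spV i A).symm
    rw [h2, ← card_spV i, ← relIndex_mul (cv V (A : Set X)) (spV i w)]
    refine Nat.mul_le_mul_right _ (le_trans ?_ hoff)
    rw [← Subgroup.relIndex_top_right]
    exact Subgroup.relIndex_le_of_le_right le_top Subgroup.index_ne_zero_of_finite
  have hsw := exists_swap_span h A.subtype A.subtype_injective (fun a => hAT a.2) h1
  -- the transpositions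
  have key : ∀ a ∈ A, ∀ p : Fin k × Fin (2 ^ m), a • w p.1 p.2.succ ≠ w p.1 p.2.succ →
      ∃ y : Fin (2 ^ m), a • w p.1 p.2.succ = w p.1 y.succ ∧
        ∃ b ∈ A, Acts w b 1 (Function.update 1 p.1 (Equiv.swap p.2.succ y.succ)) := by
    rintro a ha ⟨j, x⟩ hne
    obtain ⟨⟨b, hb⟩, h2, h3, h4⟩ := hsw ⟨a, ha⟩ (j, x) hne
    change b • w j x.succ = a • w j x.succ at h2
    change b • a • w j x.succ = w j x.succ at h3
    obtain ⟨⟨l, y⟩, hq⟩ := exists_q h (hAT ha) (j, x)
    change a • w j x.succ = w l y.succ at hq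
    change a • w j x.succ ≠ w j x.succ at hne
    rw [hq] at h2 h3 hne
    have h4' : ∀ (l' : Fin k) (y' : Fin (2 ^ m)), (l', y') ≠ (j, x) → (l', y') ≠ (l, y) →
        b • w l' y'.succ = w l' y'.succ := by
      intro l' y' h5 h6
      refine h4 (l', y') (fun h0 => h5 (wq_inj h h0)) fun h0 => h6 ?_
      change w l' y'.succ = a • w j x.succ at h0
      rw [hq] at h0
      exact wq_inj h (p := (l', y')) (q := (l, y)) h0
    obtain ⟨σ, τ, hbτ⟩ := h.perm b
    have hb0 := fix_zero h (hAT hb) hbτ
    -- the summand is fixed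
    have hlj : l = j := by
      by_contra hlj
      obtain ⟨z, hz1, hz2⟩ := exists_third h.m_pos (0 : Fin (2 ^ m + 1)) x.succ
      obtain ⟨z', rfl⟩ := Fin.exists_succ_eq.2 hz1
      have h5 := h4' j z' (fun h0 => hz2 (by rw [(Prod.mk.inj h0).2])) (fun h0 => hlj (Prod.mk.inj h0).1.symm)
      rw [hbτ j z'.succ] at h5
      have h6 := (w_inj h h5).1
      rw [hbτ j x.succ] at h2
      have h7 := (w_inj h h2).1
      exact hlj (h7.symm.trans h6)
    subst hlj
    have hxy : x ≠ y := fun h0 => hne (by rw [h0])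
    refine ⟨y, hq, b, hb, ?_⟩
    have h5 : ∀ j' x', b • w j' x' = w j' ((Function.update (1 : Fin k → Equiv.Perm (Fin (2 ^ m + 1))) l
        (Equiv.swap x.succ y.succ)) j' x') := by
      intro j' x'
      rcases Fin.eq_zero_or_eq_succ x' with rfl | ⟨z, rfl⟩
      · have h8 : σ j' = j' := by
          by_cases hj : j' = l
          · subst hj
            rw [hbτ j' x.succ] at h2
            exact (w_inj h h2).1
          · have h9 := h4' j' x (fun h0 => hj (Prod.mk.inj h0).1) (fun h0 => hj (Prod.mk.inj h0).1)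
            rw [hbτ j' x.succ] at h9
            exact (w_inj h h9).1
        rw [hbτ j' 0, hb0, h8]
        by_cases hj : j' = l
        · subst hj
          rw [Function.update_self, Equiv.swap_apply_of_ne_of_ne (Fin.succ_ne_zero x).symm (Fin.succ_ne_zero y).symm]
        · rw [Function.update_of_ne hj]
          rfl
      · by_cases hj : j' = l
        · subst hj
          rw [Function.update_self]
          by_cases hzx : z = x
          · subst hzx
            rw [Equiv.swap_apply_left]
            exact h2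
          · by_cases hzy : z = y
            · subst hzy
              rw [Equiv.swap_apply_right]
              exact h3
            · rw [Equiv.swap_apply_of_ne_of_ne (fun h0 => hzx (Fin.succ_injective _ h0))
                (fun h0 => hzy (Fin.succ_injective _ h0))]
              exact h4' j' z (fun h0 => hzx (Prod.mk.inj h0).2) (fun h0 => hzy (Prod.mk.inj h0).2)
        · rw [Function.update_of_ne hj]
          exact h4' j' z (fun h0 => hj (Prod.mk.inj h0).1) (fun h0 => hj (Prod.mk.inj h0).1)
    exact h5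
  obtain ⟨σ, τ, haτ⟩ := h.perm a
  have ha0 := fix_zero h (hAT ha) haτ
  have hσ : σ = 1 := by
    ext j
    change ((σ j : Fin k) : ℕ) = j
    congr 1
    obtain ⟨z, hz1, -⟩ := exists_third h.m_pos (0 : Fin (2 ^ m + 1)) 0
    obtain ⟨z', rfl⟩ := Fin.exists_succ_eq.2 hz1
    by_cases hne : a • w j z'.succ = w j z'.succ
    · rw [haτ] at hne
      exact (w_inj h hne).1
    · obtain ⟨y, hy, -⟩ := key a ha (j, z') hne
      rw [haτ] at hy
      exact (w_inj h hy).1
  subst hσ
  refine ⟨τ, haτ, ha0, fun j x => ?_, fun j x hx => ?_⟩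
  · have h2 : (a * a) • w j x = w j x := by rw [hs a ha, one_smul]
    rw [mul_smul, haτ, haτ] at h2
    exact (w_inj h h2).2
  · have hx0 : x ≠ 0 := fun h0 => hx (by rw [h0]; exact ha0 j)
    obtain ⟨x', rfl⟩ := Fin.exists_succ_eq.2 hx0
    have hne : a • w j x'.succ ≠ w j x'.succ := by
      intro h0
      rw [haτ] at h0
      exact hx (w_inj h h0).2
    obtain ⟨y, hy, b, hb, h3⟩ := key a ha (j, x') hne
    change a • w j x'.succ = w j y.succ at hy
    rw [haτ] at hy
    have h4 := (w_inj h hy).2
    exact ⟨b, hb, by rw [h4]; exact h3⟩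

end T

end Cfsg.Agent.Omega.FFBr.Two
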