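import Cfsg.Agent.Omega.FFBr.TwoCoord
import Cfsg.Agent.Omega.MutE.Perm

/-!
# The FF theorem for minimal parabolics, `q = 2`: the elementary abelian subgroups of `T`

`SymMod P V T k m w`. `T` permutes the points `w i x.succ`, a basis of the span of the points, so `Omega.MutE.Perm`
applies to the elementary abelian subgroups of `T`.

* `odd_iff` : the centraliser of the transvections is the centraliser of `O²(P)`;
* `card_le_span`, `exists_swap_span` : Theorems of `MutE.Perm`;
* `off_struct` : an abelian offender in `T` fixes all the summands and contains the transpositions of its orbits.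
-/

set_option autoImplicit false

namespace Cfsg.Agent.Omega.FFBr.Two

open Subgroup Cfsg.Agent.Omega.Transv

variable {P : Type*} [Group P] {V : Type*} [AddCommGroup V] [Module (ZMod 2) V] [DistribMulAction P V]
  {T : Sylow 2 P} {k m : ℕ} {w : Fin k → Fin (2 ^ m + 1) → V}

variable (h : SymMod P V T k m w)

/-! ### `C_V(O²(P))` -/

theorem exists_third (_hm : 0 < m) (x y : Fin (2 ^ m + 1)) : ∃ z, z ≠ x ∧ z ≠ y := by
  have h3 : 3 ≤ 2 ^ m + 1 := by
    obtain ⟨n, hn⟩ : ∃ n, m = n + 1 := ⟨m - 1, by omega⟩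
    rw [hn, pow_succ]
    have := Nat.one_le_two_pow (n := n)
    omega
  have h4 : ({x, y} : Finset (Fin (2 ^ m + 1))).card < (Finset.univ : Finset (Fin (2 ^ m + 1))).card := by
    rw [Finset.card_univ, Fintype.card_fin]
    exact lt_of_le_of_lt Finset.card_le_two (by omega)
  obtain ⟨z, -, hz⟩ := Finset.exists_mem_notMem_of_card_lt_card h4
  refine ⟨z, ?_, ?_⟩
  · rintro rfl
    simp at hz
  · rintro rfl
    simp at hz

include h in
theorem mem_closure_of_odd [Finite P] {x : P} (hx : Odd (orderOf x)) : x ∈ closure (DD P V) := by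
  obtain ⟨n, hn⟩ := exists_pow_mem closure_normal h.gen x
  have h1 : (orderOf x).Coprime (2 ^ n) := Nat.Coprime.pow_right n (Nat.coprime_two_right.2 hx)
  obtain ⟨l, hl⟩ := exists_pow_eq_self_of_coprime h1.symm
  rw [← hl]
  exact pow_mem hn l

include h in
theorem odd_iff [Finite P] {v : V} :
    v ∈ fixS V (closure (DD P V)) ↔ ∀ x : P, Odd (orderOf x) → x • v = v := by
  constructor
  · intro hv x hx
    exact hv x (mem_closure_of_odd h hx)
  · intro hv
    rw [← crd_eq_zero_iff h]
    have h1 : ∀ i x z, z ≠ x → crd h v i z = crd h v i x := by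
      intro i x z hzx
      obtain ⟨y, hyx, hyz⟩ := exists_third h.m_pos x z
      have h3c := Equiv.Perm.isThreeCycle_swap_mul_swap_same (a := x) (b := y) (c := z) hyx.symm hzx.symm hyz
      set c := Equiv.swap x y * Equiv.swap x z with hc
      have hcz : c z = y := by
        rw [hc, Equiv.Perm.mul_apply, Equiv.swap_apply_right, Equiv.swap_apply_left]
      have hcx : c x = z := by
        rw [hc, Equiv.Perm.mul_apply, Equiv.swap_apply_left, Equiv.swap_apply_of_ne_of_ne hzx hyz.symm]
      obtain ⟨g, -, hg⟩ := exists_lift h (Pi.mulSingle i c)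
      have hg3 : g ^ 3 = 1 := by
        have h5 : Acts w (g ^ 3) 1 1 := by
          intro j y
          rw [pow_succ, pow_two, mul_smul, mul_smul, hg, hg, hg]
          simp only [Equiv.Perm.coe_one, id_eq, Pi.one_apply]
          by_cases hj : j = i
          · subst hj
            rw [Pi.mulSingle_eq_same]
            congr 1
            have h6 : c ^ 3 = 1 := by
              rw [← h3c.orderOf]
              exact pow_orderOf_eq_one c
            have h7 := Equiv.Perm.congr_fun h6 y
            rwa [pow_succ, pow_two, Equiv.Perm.mul_apply, Equiv.Perm.mul_apply] at h7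
          · rw [Pi.mulSingle_eq_of_ne hj]
            rfl
        exact Acts.eq h h5 Acts.one
      have hodd : Odd (orderOf g) := by
        have h6 : orderOf g ∣ 3 := orderOf_dvd_of_pow_eq_one hg3
        exact Odd.of_dvd_nat (by decide) h6
      have h7 := crd_smul h hg v i x
      rw [hv g hodd, Pi.mulSingle_eq_same, hcx] at h7
      exact h7
    funext i x
    have h2 := crd_even h v i
    have h3 : ∀ z, crd h v i z = crd h v i x := by
      intro z
      by_cases hz : z = x
      · rw [hz]
      · exact h1 i x z hz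
    rw [Finset.sum_congr rfl fun z _ => h3 z, Finset.sum_const, Finset.card_univ, Fintype.card_fin, nsmul_eq_mul,
      Nat.cast_add, two_pow_cast h.m_pos, Nat.cast_one, zero_add, one_mul] at h2
    exact h2

/-! ### The action of `T` on the basis -/

include h in
theorem fix_zero {t : P} (ht : t ∈ T) {σ : Equiv.Perm (Fin k)} {τ : Fin k → Equiv.Perm (Fin (2 ^ m + 1))}
    (hg : Acts w t σ τ) (i : Fin k) : τ i 0 = 0 := by
  obtain ⟨j, hj⟩ := h.fix0 t ht i
  rw [hg i 0] at hj
  exact (w_inj h hj).2

include h in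
theorem exists_q {t : P} (ht : t ∈ T) (p : Fin k × Fin (2 ^ m)) :
    ∃ q : Fin k × Fin (2 ^ m), t • w p.1 p.2.succ = w q.1 q.2.succ := by
  obtain ⟨σ, τ, hg⟩ := h.perm t
  have h0 := fix_zero h ht hg p.1
  have h1 : τ p.1 p.2.succ ≠ 0 := by
    intro h2
    rw [← h0] at h2
    exact Fin.succ_ne_zero _ ((τ p.1).injective h2)
  obtain ⟨y, hy⟩ := Fin.exists_succ_eq.2 h1
  exact ⟨(σ p.1, y), by rw [hg, hy]⟩

include h in
theorem wq_inj {p q : Fin k × Fin (2 ^ m)} (hpq : w p.1 p.2.succ = w q.1 q.2.succ) : p = q := by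
  obtain ⟨h1, h2⟩ := w_inj h hpq
  exact Prod.ext h1 (Fin.succ_injective _ h2)

include h in
theorem inv_spn : Inv P (spn w) := by
  intro g v hv
  have h0 : ∀ i x, w i x ∈ spn w := by
    intro i x
    rcases Fin.eq_zero_or_eq_succ x with rfl | ⟨x', rfl⟩
    · rw [w_zero h i]
      exact Submodule.sum_mem _ fun x _ => Submodule.subset_span ⟨(i, x), rfl⟩
    · exact Submodule.subset_span ⟨(i, x'), rfl⟩
  have h1 : spn w ≤ (spn w).comap (lin g : V →ₗ[ZMod 2] V) := by
    rw [spn, Submodule.span_le]
    rintro _ ⟨p, rfl⟩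
    change g • w p.1 p.2.succ ∈ spn w
    obtain ⟨σ, τ, hg⟩ := h.perm g
    rw [hg]
    exact h0 _ _
  exact h1 hv

include h in
theorem eq_one_of_fix {g : P} (hg : ∀ p : Fin k × Fin (2 ^ m), g • w p.1 p.2.succ = w p.1 p.2.succ) : g = 1 := by
  refine h.faithful g fun i x => ?_
  rcases Fin.eq_zero_or_eq_succ x with rfl | ⟨x', rfl⟩
  · rw [w_zero h i, Finset.smul_sum]
    exact Finset.sum_congr rfl fun x _ => hg (i, x)
  · exact hg (i, x')

section abs

variable {A : Type*} [CommGroup A] [Finite A] (ρ : A →* P) (hρ : Function.Injective ρ) (hT : ∀ a, ρ a ∈ T)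

/-- the action on the basis, as a function -/
noncomputable def qf (a : A) (p : Fin k × Fin (2 ^ m)) : Fin k × Fin (2 ^ m) := (exists_q h (hT a) p).choose

omit [Finite A] in
theorem qf_spec (a : A) (p : Fin k × Fin (2 ^ m)) :
    ρ a • w p.1 p.2.succ = w (qf h ρ hT a p).1 (qf h ρ hT a p).2.succ :=
  (exists_q h (hT a) p).choose_spec

/-- the action on the basis -/
@[reducible] noncomputable def actQ : MulAction A (Fin k × Fin (2 ^ m)) where
  smul a p := qf h ρ hT a p
  one_smul p := by
    have h1 := qf_spec h ρ hT 1 p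
    rw [map_one, one_smul] at h1
    exact (wq_inj h h1).symm
  mul_smul a b p := by
    have h1 := qf_spec h ρ hT (a * b) p
    have h2 := qf_spec h ρ hT b p
    have h3 := qf_spec h ρ hT a (qf h ρ hT b p)
    rw [map_mul, mul_smul, h2, h3] at h1
    exact (wq_inj h h1).symm

/-- the action on the span -/
@[reducible] def actW : DistribMulAction A (spn w) where
  smul a v := ⟨ρ a • (v : V), inv_spn h (ρ a) v v.2⟩
  one_smul v := Subtype.ext (by change ρ 1 • (v : V) = v; rw [map_one, one_smul])
  mul_smul a b v := Subtype.ext (by change ρ (a * b) • (v : V) = ρ a • ρ b • (v : V); rw [map_mul, mul_smul])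
  smul_zero a := Subtype.ext (smul_zero (ρ a))
  smul_add a v u := Subtype.ext (smul_add (ρ a) (v : V) u)

include h hρ hT in
theorem card_le_span :
    Nat.card A * Nat.card {v : spn w // ∀ a : A, ρ a • (v : V) = v} ≤ Nat.card (spn w) := by
  let i1 := actQ h ρ hT
  let i2 := actW h ρ
  have h1 := MutE.Perm.card_le (A := A) (Ω := Fin k × Fin (2 ^ m)) (V := spn w) (bas h) (fun a p => ?_) (fun a ha => ?_)
  · have h2 : Nat.card {v : spn w // ∀ a : A, ρ a • (v : V) = v} = Nat.card {v : spn w // ∀ a : A, a • v = v} :=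
      Nat.card_congr (Equiv.subtypeEquivRight fun v => forall_congr' fun a =>
        ⟨fun h3 => Subtype.ext h3, fun h3 => congrArg Subtype.val h3⟩)
    rw [h2]
    exact h1
  · apply Subtype.ext
    change ρ a • (bas h p : V) = (bas h (a • p) : V)
    rw [bas_apply, bas_apply]
    exact qf_spec h ρ hT a p
  · apply hρ
    rw [map_one]
    refine eq_one_of_fix h fun p => ?_
    have h3 := congrArg Subtype.val (ha (bas h p))
    change ρ a • (bas h p : V) = (bas h p : V) at h3
    rwa [bas_apply] at h3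

include h hρ hT in
theorem exists_swap_span
    (hoff : Nat.card (spn w) ≤ Nat.card A * Nat.card {v : spn w // ∀ a : A, ρ a • (v : V) = v}) (a : A)
    (p : Fin k × Fin (2 ^ m)) (hp : ρ a • w p.1 p.2.succ ≠ w p.1 p.2.succ) :
    ∃ b : A, ρ b • w p.1 p.2.succ = ρ a • w p.1 p.2.succ ∧ ρ b • ρ a • w p.1 p.2.succ = w p.1 p.2.succ ∧
      ∀ q : Fin k × Fin (2 ^ m), w q.1 q.2.succ ≠ w p.1 p.2.succ → w q.1 q.2.succ ≠ ρ a • w p.1 p.2.succ →
        ρ b • w q.1 q.2.succ = w q.1 q.2.succ := by
  let i1 := actQ h ρ hT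
  let i2 := actW h ρ
  have hs : ∀ (a : A) (p : Fin k × Fin (2 ^ m)), ρ a • w p.1 p.2.succ = w (a • p).1 (a • p).2.succ :=
    fun a p => qf_spec h ρ hT a p
  have h2 : Nat.card {v : spn w // ∀ a : A, ρ a • (v : V) = v} = Nat.card {v : spn w // ∀ a : A, a • v = v} :=
    Nat.card_congr (Equiv.subtypeEquivRight fun v => forall_congr' fun a =>
      ⟨fun h3 => Subtype.ext h3, fun h3 => congrArg Subtype.val h3⟩)
  rw [h2] at hoff
  obtain ⟨b, h3, h4, h5⟩ := MutE.Perm.exists_swap (A := A) (Ω := Fin k × Fin (2 ^ m)) (V := spn w) (bas h)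
    (fun a p => by
      apply Subtype.ext
      change ρ a • (bas h p : V) = (bas h (a • p) : V)
      rw [bas_apply, bas_apply]
      exact hs a p)
    (fun a ha => by
      apply hρ
      rw [map_one]
      refine eq_one_of_fix h fun p => ?_
      have h3 := congrArg Subtype.val (ha (bas h p))
      change ρ a • (bas h p : V) = (bas h p : V) at h3
      rwa [bas_apply] at h3) hoff a p (fun h0 => hp (by rw [hs, h0]))
  refine ⟨b, ?_, ?_, fun q hq1 hq2 => ?_⟩
  · rw [hs, hs, h3]
  · rw [hs, hs, h4]
  · rw [hs, h5 q (fun h0 => hq1 (by rw [h0])) (fun h0 => hq2 (by rw [hs, h0]))]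

end abs

end Cfsg.Agent.Omega.FFBr.Two
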