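import Cfsg.Agent.Omega.FFBr.TwoOff

/-!
# The FF theorem for minimal parabolics, `q = 2`: the structure `AbsSym`

`absSym` : `SymMod X V' T k m w` gives `AbsSym T V k m`.
-/

set_option autoImplicit false

namespace Cfsg.Agent.Omega.FFBr.Two

open Subgroup Cfsg.Agent.Omega.Transv
open Cfsg.Agent.ClassTwoFusion.Quad (cv mem_cv)

variable {X : Type*} [Group X] {V : Type*} [Group V] [MulDistribMulAction X V]
  {V' : Type*} [AddCommGroup V'] [Module (ZMod 2) V'] [DistribMulAction X V']
  {T : Sylow 2 X} {k m : ℕ} {w : Fin k → Fin (2 ^ m + 1) → V'} {ι : V → V'}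

section

variable [Finite X] (h : SymMod X V' T k m w) (i : Tr X ι)

include h i in
theorem mem_odd_iff {v : V} : v ∈ odd X V ↔ ι v ∈ fixS V' (closure (DD X V')) := by
  rw [mem_odd, odd_iff h]
  refine forall_congr' fun x => forall_congr' fun _ => ?_
  rw [← i.act]
  exact ⟨fun h0 => by rw [h0], fun h0 => i.inj h0⟩

include h i in
theorem fix_odd {g : X} (hg : g ∈ closure (DD X V')) {v : V} (hv : v ∈ odd X V) : g • v = v := by
  apply i.inj
  rw [i.act]
  exact fix_D hg ((mem_odd_iff h i).1 hv)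

omit [Finite X] in
include h in
/-- elements which act as permutations of the points of the summands are products of transvections -/
theorem mem_closure_of_acts {g : X} {τ : Fin k → Equiv.Perm (Fin (2 ^ m + 1))} (hg : Acts w g 1 τ) :
    g ∈ closure (DD X V') := by
  obtain ⟨g', h1, h2⟩ := exists_lift h τ
  rw [Acts.eq h hg h2]
  exact h1

omit [Finite X] in
include h in
theorem acts_iff {g : X} {σ : Equiv.Perm (Fin k)} {τ : Fin k → Equiv.Perm (Fin (2 ^ m + 1))} (i : Tr X ι) :
    AActsSym (fun v => crd h (ι v)) g σ τ ↔ Acts w g σ τ := by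
  constructor
  · intro h1
    refine Acts.of_crd h fun v' j x => ?_
    obtain ⟨v, rfl⟩ := i.surj v'
    rw [← i.act]
    exact h1 v j x
  · intro h1 v j x
    change crd h (ι (g • v)) (σ j) (τ j x) = crd h (ι v) j x
    rw [i.act]
    exact crd_smul h h1 _ _ _

/-- the structure for `S_{2^m+1}` -/
noncomputable def absSym [Finite V] : AbsSym (T : Subgroup X) V k m where
  e v := crd h (ι v)
  mul v u := by rw [i.mul, map_add]
  even v j := crd_even h _ j
  surj y hy := by
    obtain ⟨v', hv⟩ := crd_surj h y hy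
    obtain ⟨v, rfl⟩ := i.surj v'
    exact ⟨v, hv⟩
  ker v := by rw [mem_odd_iff h i, crd_eq_zero_iff h]
  lift τ := by
    obtain ⟨g, hg, h1⟩ := exists_lift h τ
    exact ⟨g, (acts_iff h i).2 h1, fun d hd => fix_odd h i hg hd⟩
  perm g := by
    obtain ⟨σ, τ, h1⟩ := h.perm g
    exact ⟨σ, τ, (acts_iff h i).2 h1⟩
  trans j l := by
    obtain ⟨t, ht, h1⟩ := h.trans j l
    obtain ⟨σ, τ, h2⟩ := h.perm t
    refine ⟨t, ht, σ, τ, (acts_iff h i).2 h2, ?_⟩
    rw [h2 j 0] at h1
    exact (w_inj h h1).1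
  fix0 t ht σ τ h1 j := fix_zero h ht ((acts_iff h i).1 h1) j
  gen K hTK hK := by
    rw [eq_top_iff, ← h.gen]
    refine sup_le ?_ hTK
    rw [closure_le]
    rintro d ⟨a, χ, hd⟩
    obtain ⟨j, x, y, hxy, ha, h1⟩ := h.all d a χ hd
    have h2 : Acts w d 1 (Function.update 1 j (Equiv.swap x y)) := by
      intro l z
      rw [(h1 l z).1]
      congr 1
      by_cases hl : l = j
      · subst hl
        simp
      · simp [hl]
    exact hK d _ ((acts_iff h i).2 h2) fun v hv => fix_odd h i (subset_closure hd.mem) hv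
  off A hAT hA := by
    refine ⟨fun a ha d hd => ?_, fun a ha => ?_⟩
    · obtain ⟨τ, h1⟩ := offData h i hAT hA.comm hA.sq hA.le a ha
      exact fix_odd h i (mem_closure_of_acts h h1.acts) hd
    · obtain ⟨τ, h1⟩ := offData h i hAT hA.comm hA.sq hA.le a ha
      refine ⟨τ, (acts_iff h i).2 h1.acts, fun j x hx => ⟨h1.sq j x, ?_⟩⟩
      obtain ⟨b, hb, h2⟩ := h1.swap j x hx
      exact ⟨b, hb, (acts_iff h i).2 h2⟩

end

end Cfsg.Agent.Omega.FFBr.Two
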